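import Cfsg.Agent.TwoFusionB.ExtraspecialOut
import Cfsg.Agent.Lib.LargeExtraspecial.Statements
import Cfsg.Agent.Forms59.Involutions

/-!
# The action of `C(z)` on `Q ⧸ ⟨z⟩` in coordinates, and conjugation into `C(z)`
-/

set_option autoImplicit false

namespace Cfsg.Agent.LargeExt10

open QuadraticMap Cfsg.Agent.Reflections Cfsg.Agent.LargeExtraspecial

/-- `z ^ a` for a bit `a`. -/
def pw {G : Type*} [One G] (z : G) (a : ZMod 2) : G := if a = 0 then 1 else z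

theorem pw_zero {G : Type*} [One G] (z : G) : pw z 0 = 1 := rfl
theorem pw_one {G : Type*} [One G] (z : G) : pw z 1 = z := rfl

theorem pw_cases {G : Type*} [One G] (z : G) (a : ZMod 2) :
    (a = 0 ∧ pw z a = 1) ∨ (a = 1 ∧ pw z a = z) := by
  rcases (by decide : ∀ b : ZMod 2, b = 0 ∨ b = 1) a with rfl | rfl
  · exact Or.inl ⟨rfl, rfl⟩
  · exact Or.inr ⟨rfl, rfl⟩

theorem pw_mul {G : Type*} [Monoid G] {z : G} (hz : z * z = 1) (a b : ZMod 2) :
    pw z a * pw z b = pw z (a + b) := by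
  rcases (by decide : ∀ b : ZMod 2, b = 0 ∨ b = 1) a with rfl | rfl <;>
    rcases (by decide : ∀ b : ZMod 2, b = 0 ∨ b = 1) b with rfl | rfl <;>
    simp [pw, hz, show (1 : ZMod 2) + 1 = 0 by decide]

theorem pw_eq_one {G : Type*} [One G] {z : G} (hz : z ≠ 1) {a : ZMod 2} (h : pw z a = 1) : a = 0 := by
  rcases pw_cases z a with ⟨e, -⟩ | ⟨-, e⟩
  · exact e
  · exact absurd (e.symm.trans h) hz

theorem pw_inj {G : Type*} [Monoid G] {z : G} (hz : z ≠ 1) {a b : ZMod 2} (h : pw z a = pw z b) :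
    a = b := by
  rcases pw_cases z a with ⟨e, e'⟩ | ⟨e, e'⟩ <;> rcases pw_cases z b with ⟨d, d'⟩ | ⟨d, d'⟩ <;>
    rw [e', d'] at h <;> rw [e, d]
  · exact absurd h.symm hz
  · exact absurd h hz

variable {G : Type*} [Group G] [Finite G] {z : G} {Q : Subgroup G}

/-- Coordinates of `Q ⧸ ⟨z⟩` for a quadratic form. -/
structure Coords {ι : Type} (f : QuadraticForm (ZMod 2) (ι → ZMod 2)) (z : G) (Q : Subgroup G)
    (c : G → ι → ZMod 2) : Prop where
  mul : ∀ x ∈ Q, ∀ y ∈ Q, c (x * y) = c x + c y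
  surj : ∀ v, ∃ x ∈ Q, c x = v
  ker : ∀ x ∈ Q, (c x = 0 ↔ x ∈ Subgroup.zpowers z)
  sq : ∀ x ∈ Q, x * x = pw z (f (c x))
  comm : ∀ x ∈ Q, ∀ y ∈ Q, x * y * x⁻¹ * y⁻¹ = pw z (polar ⇑f (c x) (c y))

theorem coords_of {ι : Type} {f : QuadraticForm (ZMod 2) (ι → ZMod 2)} (S : Setup Q z)
    {c : ↥Q → ι → ZMod 2} (h : TwoFusionB.XCoords (⇑f) c) :
    ∃ c' : G → ι → ZMod 2, Coords f z Q c' := by
  classical
  have hzc : ∀ x : Q, x ∈ Subgroup.center Q ↔ (x : G) ∈ Subgroup.zpowers z := fun x => by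
    rw [← S.center_eq, ← Subgroup.mem_map_iff_mem Q.subtype_injective]; rfl
  let c' : G → ι → ZMod 2 := fun x => if hx : x ∈ Q then c ⟨x, hx⟩ else 0
  have hc : ∀ x (hx : x ∈ Q), c' x = c ⟨x, hx⟩ := fun x hx => dif_pos hx
  have hmul : ∀ x ∈ Q, ∀ y ∈ Q, c' (x * y) = c' x + c' y := fun x hx y hy => by
    rw [hc x hx, hc y hy, hc _ (mul_mem hx hy), ← h.add]; rfl
  have hker : ∀ x ∈ Q, (c' x = 0 ↔ x ∈ Subgroup.zpowers z) := fun x hx => by
    rw [hc x hx, h.ker, hzc]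
  have hsq : ∀ x ∈ Q, x * x = pw z (f (c' x)) := fun x hx => by
    have h1 := h.sq ⟨x, hx⟩
    rw [hc x hx]
    rcases S.zpowers_cases (S.sq_mem hx) with e | e <;> rw [e]
    · rw [h1, TwoFusionB.ind_eq_zero.2 (Subtype.ext e : (⟨x, hx⟩ : Q) * ⟨x, hx⟩ = 1), pw_zero]
    · rcases pw_cases z (f (c ⟨x, hx⟩)) with ⟨d, -⟩ | ⟨-, d⟩
      · rw [h1, TwoFusionB.ind_eq_zero] at d
        exact absurd (e.symm.trans (congrArg Subtype.val d)) S.z_ne_one
      · exact d.symm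
  refine ⟨c', hmul, fun v => ?_, hker, hsq, fun x hx y hy => ?_⟩
  · obtain ⟨x, hx⟩ := h.surj v
    exact ⟨x, x.2, (hc _ x.2).trans hx⟩
  · have e1 := hsq _ (mul_mem hx hy)
    rw [hmul x hx y hy, QuadraticMap.map_add ⇑f, ← pw_mul S.z_mul_self, ← pw_mul S.z_mul_self,
      ← hsq x hx, ← hsq y hy] at e1
    have hw : x * y * x⁻¹ * y⁻¹ ∈ Subgroup.zpowers z := by
      rcases S.comm_cases hx hy with e | e <;> rw [e]
      · exact one_mem _
      · exact Subgroup.mem_zpowers z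
    have hc' : ∀ w ∈ Subgroup.zpowers z, w * w = 1 ∧ ∀ q ∈ Q, Commute w q := fun w hw => by
      rcases S.zpowers_cases hw with e | e <;> rw [e]
      · exact ⟨one_mul 1, fun q _ => Commute.one_left q⟩
      · exact ⟨S.z_mul_self, fun q hq => S.z_commute hq⟩
    obtain ⟨k2, hk⟩ := hc' _ hw
    have e2 : x * y * (x * y) = x * x * (y * y) * (x * y * x⁻¹ * y⁻¹) := by
      have h3 : (x * y * x⁻¹ * y⁻¹)⁻¹ = x * y * x⁻¹ * y⁻¹ := inv_eq_of_mul_eq_one_left k2
      calc x * y * (x * y) = x * ((x * y * x⁻¹ * y⁻¹)⁻¹ * (x * y)) * y := by group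
        _ = x * ((x * y * x⁻¹ * y⁻¹) * (x * y)) * y := by rw [h3]
        _ = x * ((x * y) * (x * y * x⁻¹ * y⁻¹)) * y := by rw [(hk _ (mul_mem hx hy)).eq]
        _ = x * x * y * ((x * y * x⁻¹ * y⁻¹) * y) := by group
        _ = x * x * (y * y) * (x * y * x⁻¹ * y⁻¹) := by rw [(hk y hy).eq]; group
    rw [e2] at e1
    exact mul_left_cancel e1

variable {ι : Type} [Fintype ι] [DecidableEq ι] {f : QuadraticForm (ZMod 2) (ι → ZMod 2)}
  {c : G → ι → ZMod 2}

theorem Coords.c_one (h : Coords f z Q c) : c 1 = 0 := (h.ker 1 (one_mem _)).2 (one_mem _)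

theorem Coords.c_inv (h : Coords f z Q c) {x : G} (hx : x ∈ Q) : c x⁻¹ = c x := by
  have h1 := h.mul x hx x⁻¹ (inv_mem hx)
  rw [mul_inv_cancel, h.c_one] at h1
  funext i
  have h2 := congrFun h1 i
  simp only [Pi.add_apply, Pi.zero_apply] at h2
  exact (CharTwo.add_eq_zero.1 h2.symm).symm

theorem Coords.eq_iff (h : Coords f z Q c) {x y : G} (hx : x ∈ Q) (hy : y ∈ Q) :
    c x = c y ↔ x⁻¹ * y ∈ Subgroup.zpowers z := by
  rw [← h.ker _ (mul_mem (inv_mem hx) hy), h.mul _ (inv_mem hx) _ hy, h.c_inv hx]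
  constructor
  · intro e; rw [e]; exact Forms59.Inv.add_self_vec _
  · intro e; funext i; exact CharTwo.add_eq_zero.1 (congrFun e i)

/-- The action of `C(z)` by isometries, with kernel `Q`. -/
theorem exists_rho (S : Setup Q z) (h : Coords f z Q c) :
    ∃ ρ : Subgroup.centralizer ({z} : Set G) →* ↥(Cfsg.isometryGroup (ZMod 2) ⇑f),
      (∀ g, ∀ x ∈ Q, act (ρ g) (c x) = c ((g : G) * x * (g : G)⁻¹)) ∧ ∀ g, ρ g = 1 ↔ (g : G) ∈ Q := by
  classical
  choose s hsQ hs using h.surj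
  have hgz : ∀ g : Subgroup.centralizer ({z} : Set G), Commute (g : G) z := fun g =>
    Subgroup.mem_centralizer_singleton_iff.1 g.2
  have hQ' : ∀ (g : Subgroup.centralizer ({z} : Set G)) {x}, x ∈ Q → (g : G) * x * (g : G)⁻¹ ∈ Q :=
    fun g x hx => S.conj_mem (hgz g) hx
  have hzfix : ∀ (g : Subgroup.centralizer ({z} : Set G)) (a : ZMod 2),
      (g : G) * pw z a * (g : G)⁻¹ = pw z a := fun g a => by
    rcases pw_cases z a with ⟨-, e⟩ | ⟨-, e⟩ <;> rw [e]
    · group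
    · rw [(hgz g).eq, mul_inv_cancel_right]
  have hzp : ∀ {w}, w ∈ Subgroup.zpowers z → ∀ g : Subgroup.centralizer ({z} : Set G),
      (g : G) * w * (g : G)⁻¹ = w := fun {w} hw g => by
    rcases S.zpowers_cases hw with e | e <;> rw [e]
    · group
    · rw [(hgz g).eq, mul_inv_cancel_right]
  have hrep : ∀ (g : Subgroup.centralizer ({z} : Set G)) (x : G), x ∈ Q →
      c ((g : G) * x * (g : G)⁻¹) = c ((g : G) * s (c x) * (g : G)⁻¹) := fun g x hx => by
    rw [h.eq_iff (hQ' g hx) (hQ' g (hsQ _))]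
    have := (h.eq_iff hx (hsQ _)).1 (hs (c x)).symm
    rw [← hzp this g] at this
    rwa [show ((g : G) * x * (g : G)⁻¹)⁻¹ * ((g : G) * s (c x) * (g : G)⁻¹) =
      (g : G) * (x⁻¹ * s (c x)) * (g : G)⁻¹ by group]
  let L : Subgroup.centralizer ({z} : Set G) → ((ι → ZMod 2) →ₗ[ZMod 2] (ι → ZMod 2)) := fun g =>
    (AddMonoidHom.mk' (fun v => c ((g : G) * s v * (g : G)⁻¹)) fun u v => by
      rw [← h.mul _ (hQ' g (hsQ u)) _ (hQ' g (hsQ v)),
        show (g : G) * s u * (g : G)⁻¹ * ((g : G) * s v * (g : G)⁻¹) = (g : G) * (s u * s v) * (g : G)⁻¹ by group,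
        hrep g _ (mul_mem (hsQ u) (hsQ v)), h.mul _ (hsQ u) _ (hsQ v), hs, hs]).toZModLinearMap 2
  have hL : ∀ g, ∀ x ∈ Q, L g (c x) = c ((g : G) * x * (g : G)⁻¹) := fun g x hx => (hrep g x hx).symm
  let M : Subgroup.centralizer ({z} : Set G) →* Matrix ι ι (ZMod 2) :=
    { toFun := fun g => LinearMap.toMatrix' (L g)
      map_one' := by
        rw [show L 1 = LinearMap.id from LinearMap.ext fun v => by
          obtain ⟨x, hx, rfl⟩ := h.surj v; rw [hL _ _ hx]; simp]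
        exact LinearMap.toMatrix'_id
      map_mul' := fun g k => by
        rw [← LinearMap.toMatrix'_comp]
        congr 1
        refine LinearMap.ext fun v => ?_
        obtain ⟨x, hx, rfl⟩ := h.surj v
        rw [LinearMap.comp_apply, hL _ _ hx, hL _ _ hx, hL _ _ (hQ' k hx)]
        congr 1
        push_cast
        group }
  have hMv : ∀ g, ∀ x ∈ Q, Matrix.mulVec (M g) (c x) = c ((g : G) * x * (g : G)⁻¹) := fun g x hx => by
    show Matrix.mulVec (LinearMap.toMatrix' (L g)) (c x) = _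
    rw [LinearMap.toMatrix'_mulVec, hL g x hx]
  have hmem : ∀ g, M.toHomUnits g ∈ Cfsg.isometryGroup (ZMod 2) ⇑f := fun g u v => by
    show f (Matrix.mulVec (M g) u) = f u
    obtain ⟨x, hx, rfl⟩ := h.surj u
    rw [hMv g x hx]
    refine pw_inj S.z_ne_one ?_
    rw [← h.sq _ (hQ' g hx), ← h.sq x hx]
    conv_rhs => rw [h.sq x hx, ← hzfix g (f (c x)), ← h.sq x hx]
    group
  let Ψ : Subgroup.centralizer ({z} : Set G) →* ↥(Cfsg.isometryGroup (ZMod 2) ⇑f) :=
    M.toHomUnits.codRestrict _ hmem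
  have hact : ∀ g, ∀ x ∈ Q, act (Ψ g) (c x) = c ((g : G) * x * (g : G)⁻¹) := fun g x hx => hMv g x hx
  refine ⟨Ψ, hact, fun g => ⟨fun hg => ?_, fun hg => ?_⟩⟩
  · refine S.inner_of_commutator_mem fun y hy => ?_
    have e := hact g y hy
    rw [hg, act_one] at e
    have e2 := (h.eq_iff hy (hQ' g hy)).1 e
    rw [← hzp e2 ⟨y, S.le_centralizer hy⟩] at e2
    rwa [show y * (y⁻¹ * ((g : G) * y * (g : G)⁻¹)) * y⁻¹ = (g : G) * y * (g : G)⁻¹ * y⁻¹ by group] at e2
  · refine isom_ext fun v => ?_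
    obtain ⟨x, hx, rfl⟩ := h.surj v
    rw [hact g x hx, act_one, h.mul _ (mul_mem hg hx) _ (inv_mem hg), h.mul _ hg _ hx, h.c_inv hg,
      add_comm (c g), add_assoc, Forms59.Inv.add_self_vec, add_zero]

/-- If `C(z)` normalizes a large `Q` then every involution is conjugate into `C(z)`. -/
theorem conj_into_centralizer (S : Setup Q z) {x : G} (hx : x * x = 1) :
    ∃ g : G, Commute (g * x * g⁻¹) z := by
  classical
  haveI : Fact (Nat.Prime 2) := ⟨Nat.prime_two⟩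
  set C := Subgroup.centralizer ({z} : Set G) with hC
  obtain ⟨T0⟩ : Nonempty (Sylow 2 C) := inferInstance
  set T := (T0 : Subgroup C).map C.subtype with hT
  have hTp : IsPGroup 2 T := T0.isPGroup'.map _
  have hQp : IsPGroup 2 (Q.subgroupOf C) := S.extraspecial.1.1.of_equiv
    (Subgroup.subgroupOfEquivOfLe S.le_centralizer).symm
  haveI : (Q.subgroupOf C).Normal := ⟨fun n hn g => by
    rw [Subgroup.mem_subgroupOf] at hn ⊢
    push_cast
    exact S.conj_mem (Subgroup.mem_centralizer_singleton_iff.1 g.2) hn⟩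
  have hQT : Q ≤ T := by
    have h1 : Q.subgroupOf C ≤ T0 := hQp.le_sylow_of_normal T0
    intro q hq
    exact ⟨⟨q, S.le_centralizer hq⟩, h1 hq, rfl⟩
  obtain ⟨P, hP⟩ := hTp.exists_le_sylow
  have hPT : (P : Subgroup G) ≤ T := by
    by_contra hne
    have hlt : T.subgroupOf (P : Subgroup G) < ⊤ := lt_top_iff_ne_top.2 fun e =>
      hne fun y hy => by
        have : (⟨y, hy⟩ : (P : Subgroup G)) ∈ T.subgroupOf (P : Subgroup G) := by rw [e]; trivial
        exact this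
    haveI : Group.IsNilpotent (P : Subgroup G) := P.isPGroup'.isNilpotent
    have hnc := Group.normalizerCondition_of_isNilpotent (G := (P : Subgroup G)) _ hlt
    obtain ⟨w, hwN, hwT⟩ := SetLike.exists_of_lt hnc
    have hwn : ∀ t ∈ T, (w : G) * t * (w : G)⁻¹ ∈ T := fun t ht =>
      (Subgroup.mem_normalizer_iff.1 hwN ⟨t, hP ht⟩).1 ht
    have hwn' : ∀ t ∈ T, (w : G)⁻¹ * t * (w : G) ∈ T := fun t ht => by
      have := (Subgroup.mem_normalizer_iff.1 (inv_mem hwN) ⟨t, hP ht⟩).1 ht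
      rw [inv_inv, Subgroup.mem_subgroupOf] at this
      simpa using this
    have hwz : (w : G) * z * (w : G)⁻¹ ∈ Subgroup.centralizer (Q : Set G) := by
      rw [Subgroup.mem_centralizer_iff]
      intro q hq
      have hmem : (w : G)⁻¹ * q * (w : G) ∈ C := Subgroup.map_subtype_le _ (hwn' q (hQT hq))
      have hc := Subgroup.mem_centralizer_singleton_iff.1 hmem
      calc q * ((w : G) * z * (w : G)⁻¹) = (w : G) * (((w : G)⁻¹ * q * (w : G)) * z) * (w : G)⁻¹ := by group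
        _ = (w : G) * (z * ((w : G)⁻¹ * q * (w : G))) * (w : G)⁻¹ := by rw [hc]
        _ = (w : G) * z * (w : G)⁻¹ * q := by group
    rw [S.centralizer_eq] at hwz
    rcases S.zpowers_cases hwz with e | e
    · rw [conj_eq_one_iff] at e; exact S.z_ne_one e
    · have hwC : (w : G) ∈ C := Subgroup.mem_centralizer_singleton_iff.2 (mul_inv_eq_iff_eq_mul.1 e)
      refine hwT ?_
      show (w : G) ∈ T
      have hmax : ((P : Subgroup G) ⊓ C).subgroupOf C = T0 := by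
        refine T0.is_maximal' ((P.isPGroup'.to_le inf_le_left).of_equiv
          (Subgroup.subgroupOfEquivOfLe inf_le_right).symm) fun y hy => ?_
        exact ⟨hP ⟨y, hy, rfl⟩, y.2⟩
      exact ⟨⟨w, hwC⟩, hmax ▸ (⟨w.2, hwC⟩ : (⟨(w : G), hwC⟩ : C) ∈ ((P : Subgroup G) ⊓ C).subgroupOf C), rfl⟩
  have hxp : IsPGroup 2 (Subgroup.zpowers x) := by
    intro ⟨y, hy⟩
    obtain ⟨k, rfl⟩ := Subgroup.mem_zpowers_iff.1 hy
    refine ⟨1, Subtype.ext ?_⟩
    push_cast
    rw [pow_two, ← (Commute.refl x).mul_zpow, hx, one_zpow]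
  obtain ⟨P', hP'⟩ := hxp.exists_le_sylow
  obtain ⟨g, hg⟩ := MulAction.exists_smul_eq G P' P
  refine ⟨g, ?_⟩
  have h1 : g * x * g⁻¹ ∈ (P : Subgroup G) := by
    rw [← hg, Sylow.coe_subgroup_smul]
    exact ⟨x, hP' (Subgroup.mem_zpowers x), rfl⟩
  exact Subgroup.mem_centralizer_singleton_iff.1 (Subgroup.map_subtype_le _ (hPT h1))

end Cfsg.Agent.LargeExt10
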