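import Cfsg.Agent.LargeExt10.Frame

/-!
# The two classes of involutions of a group of Suzuki sporadic type
-/

set_option autoImplicit false

namespace Cfsg.Agent.LargeExt10

open QuadraticMap Cfsg.Agent.Reflections Cfsg.Agent.LargeExtraspecial
open Cfsg.Agent.Forms59.Inv (nmap add_self_vec nmap_apply polar_nmap act_eq_add rk form_nmap nmap_conj
  range_polar two_rk_le)

theorem z2 : ∀ a : ZMod 2, a = 0 ∨ a = 1 := by decide

/-- A nontrivial involution of `Ω` moves a four-group. -/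
theorem rk_eq_two {γ : O6} (hγ : γ ∈ Cfsg.Omega (ZMod 2) ⇑Q6) (h2 : γ * γ = 1) (h1 : γ ≠ 1) :
    rk γ = 2 ∧ Nat.card (LinearMap.range (nmap γ)) = 4 := by
  have he := (UnitaryOrthogonal.Involution.mem_omega_iff_even_rk (Q := Q6) hQ6 exc6 γ).1 hγ
  have hle := two_rk_le (Q := Q6) hQ6 h2
  simp only [Fintype.card_sum, Fintype.card_fin] at hle
  have h0 : rk γ ≠ 0 := fun e => by
    rw [rk, Submodule.finrank_eq_zero, LinearMap.range_eq_bot] at e
    exact h1 (isom_ext fun x => by rw [act_eq_add, e, LinearMap.zero_apply, add_zero, act_one])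
  obtain ⟨k, hk⟩ := he
  have h : rk γ = 2 := by omega
  refine ⟨h, ?_⟩
  rw [Module.natCard_eq_pow_finrank (K := ZMod 2), Nat.card_zmod]
  exact (congrArg (2 ^ ·) h).trans rfl

/-- It moves some vector to a non-zero singular one. -/
theorem exists_singular_moved {γ : O6} (hγ : γ ∈ Cfsg.Omega (ZMod 2) ⇑Q6) (h2 : γ * γ = 1)
    (h1 : γ ≠ 1) : ∃ w, nmap γ w ≠ 0 ∧ Q6 (nmap γ w) = 0 := by
  obtain ⟨hr, -⟩ := rk_eq_two hγ h2 h1
  by_contra hall
  push Not at hall
  obtain ⟨p, hp⟩ : ∃ p, nmap γ p ≠ 0 := by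
    by_contra h
    push Not at h
    exact h1 (isom_ext fun x => by rw [act_eq_add, h, add_zero, act_one])
  have hle : LinearMap.range (nmap γ) ≤ Submodule.span (ZMod 2) {nmap γ p} := by
    rintro _ ⟨q, rfl⟩
    by_contra hq
    have hq0 : nmap γ q ≠ 0 := fun e => hq (e ▸ zero_mem _)
    have hpq : nmap γ (p + q) ≠ 0 := fun e => hq (by
      rw [map_add] at e
      have e' : nmap γ q = nmap γ p := by
        have := congrArg (nmap γ p + ·) e
        simpa [← add_assoc, add_self_vec] using this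
      rw [e']; exact Submodule.subset_span rfl)
    have e1 := hall p hp
    have e2 := hall q hq0
    have e3 := hall _ hpq
    rw [map_add, QuadraticMap.map_add ⇑Q6, range_polar h2 ⟨p, rfl⟩ ⟨q, rfl⟩, add_zero] at e3
    revert e1 e2 e3
    generalize Q6 (nmap γ p) = a
    generalize Q6 (nmap γ q) = b
    revert a b
    decide
  have := Submodule.finrank_mono hle
  rw [finrank_span_singleton hp] at this
  rw [rk] at hr
  omega

variable {G : Type*} [Group G] [Finite G] {z : G} {Q : Subgroup G} {D : Sz z Q}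

theorem isConj_orderOf_two {t : G} (h2 : t * t = 1) (h1 : t ≠ 1) : orderOf t = 2 :=
  orderOf_eq_prime (by rw [pow_two, h2]) h1

namespace Frame

variable (F : Frame D)

theorem isConj_s : IsConj z F.s := by
  obtain ⟨g, hg, -⟩ := F.pair.conj
  exact isConj_iff.2 ⟨g, hg⟩

/-- Noncentral involutions of `Q` are conjugate to `z`. -/
theorem isConj_of_mem_Q (F : Frame D) {q : G} (hq : q ∈ Q) (h2 : q * q = 1) (h1 : q ≠ 1) : IsConj z q := by
  by_cases hqz : q = z
  · rw [hqz]
  have hc : D.c q ≠ 0 := fun e => by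
    rcases D.setup.zpowers_cases ((D.coords.ker q hq).1 e) with e' | e'
    exacts [h1 e', hqz e']
  obtain ⟨γ, hγ, hγq⟩ := exists_to_v0 hc ((D.sq_eq_one hq).1 h2)
  obtain ⟨k, hk, rfl⟩ := D.ρ_surj hγ
  obtain ⟨i, hi⟩ := F.eq_el (D.setup.conj_mem hk hq) (j := 1)
    (by rw [← D.ρ_act hk hq, hγq, one_smul])
  have hs : IsConj z (el z F.s i 1) := by
    rcases z2 i with rfl | rfl
    · rw [el, pw_zero, pw_one, one_mul]; exact F.isConj_s
    · rw [el, pw_one, pw_one, ← F.conj_y_s]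
      exact F.isConj_s.trans (isConj_iff.2 ⟨F.y, rfl⟩)
  exact hs.trans (isConj_iff.2 ⟨k⁻¹, by rw [← hi]; group⟩)

/-- Involutions of `R` are conjugate to `z`. -/
theorem isConj_of_mem_R {t : G} (ht : t ∈ F.R) (h2 : t * t = 1) (h1 : t ≠ 1) : IsConj z t := by
  obtain ⟨k, -, hR⟩ := F.pair.conj
  rw [hR] at ht
  obtain ⟨q, hq, rfl⟩ := ht
  simp only [MulEquiv.coe_toMonoidHom, MulAut.conj_apply] at h1 h2 ⊢
  have hq2 : q * q = 1 := by
    have := congrArg (fun w => k⁻¹ * w * k) h2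
    simp only [mul_one, inv_mul_cancel] at this
    rw [← this]; group
  exact (F.isConj_of_mem_Q hq hq2 fun e => h1 (by rw [e]; group)).trans (isConj_iff.2 ⟨k, rfl⟩)

/-- Every involution outside `Q` has a conjugate adapted to the frame. -/
theorem exists_sig {t : G} (hz : Commute t z) (h2 : t * t = 1) (hQ : t ∉ Q) :
    ∃ t', IsConj t t' ∧ t' * t' = 1 ∧ F.Sig t' ∧ t' ∉ Q := by
  have hmem := D.ρ_mem hz
  have hsq := D.rho_sq hz (h2 ▸ one_mem Q)
  have hne : D.ρ t ≠ 1 := fun e => hQ ((D.ρ_ker hz).1 e)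
  obtain ⟨w0, hw0, hq0⟩ := exists_singular_moved hmem hsq hne
  obtain ⟨γ, hγ, hγu⟩ := exists_to_v0 hw0 hq0
  obtain ⟨g, hg, rfl⟩ := D.ρ_surj hγ
  set t' := g * t * g⁻¹ with ht'
  have hz' : Commute t' z := (hg.mul_left hz).mul_left hg.inv_left
  have h2' : t' * t' = 1 := by
    rw [ht', show g * t * g⁻¹ * (g * t * g⁻¹) = g * (t * t) * g⁻¹ by group, h2]; group
  have hQ' : t' ∉ Q := fun e => hQ (by
    have := D.setup.conj_mem hg.inv_left e
    rwa [ht', show g⁻¹ * (g * t * g⁻¹) * g⁻¹⁻¹ = t by group] at this)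
  have hw : nmap (D.ρ t') (act (D.ρ g) w0) = v0 := by
    rw [ht', D.ρ_mul (hg.mul_left hz) hg.inv_left, D.ρ_mul hg hz, D.rho_inv hg, nmap_conj, hγu]
  have hsq' := D.rho_sq hz' (h2' ▸ one_mem Q)
  have hne' : D.ρ t' ≠ 1 := fun e => hQ' ((D.ρ_ker hz').1 e)
  generalize act (D.ρ g) w0 = w at hw
  refine ⟨t', isConj_iff.2 ⟨g, rfl⟩, h2', ⟨hz', ?_, hsq', fun v hv => ?_⟩, hQ'⟩
  · -- commutes with `s`
    obtain ⟨x, hx, hcx⟩ := D.coords.surj w
    set e := t' * x * t'⁻¹ * x⁻¹ with he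
    have heQ : e ∈ Q := D.setup.comm_mem hz' hx
    have hce : D.c e = v0 := by
      rw [he, D.coords.mul _ (D.setup.conj_mem hz' hx) _ (inv_mem hx), D.coords.c_inv hx,
        ← D.ρ_act hz' hx, ← nmap_apply, hcx, hw]
    have ti : t'⁻¹ = t' := inv_eq_of_mul_eq_one_left h2'
    have hee : e⁻¹ = e := inv_eq_of_mul_eq_one_left ((D.sq_eq_one heQ).2 (by rw [hce]; exact Q_v0))
    have hte : t' * e * t'⁻¹ = e := by
      calc t' * e * t'⁻¹ = (t' * t') * x * t'⁻¹ * x⁻¹ * t'⁻¹ := by rw [he]; group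
        _ = x * t' * x⁻¹ * t'⁻¹ := by rw [h2', ti]; group
        _ = e⁻¹ := by rw [he]; group
        _ = e := hee
    obtain ⟨i, hi⟩ := F.eq_el heQ (j := 1) (by rw [hce, one_smul])
    have hc1 : Commute t' (el z F.s i 1) := hi ▸ mul_inv_eq_iff_eq_mul.1 hte
    have hc2 : Commute t' (pw z i) := by
      rcases pw_cases z i with ⟨-, e'⟩ | ⟨-, e'⟩ <;> rw [e']
      exacts [Commute.one_right _, hz']
    have := hc2.inv_right.mul_right hc1
    rwa [el, pw_one, inv_mul_cancel_left] at this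
  · by_contra hv'
    push Not at hv'
    set u := nmap (D.ρ t') v with hu
    obtain ⟨-, hcard⟩ := rk_eq_two (D.ρ_mem hz') hsq' hne'
    have hset : ({0, v0, u, u + v0} : Set V6) = LinearMap.range (nmap (D.ρ t')) := by
      refine Set.eq_of_subset_of_ncard_le ?_ ?_
      · rintro x (rfl | rfl | rfl | rfl)
        · exact zero_mem _
        · exact ⟨w, hw⟩
        · exact ⟨v, rfl⟩
        · exact add_mem ⟨v, rfl⟩ ⟨w, hw⟩
      · rw [← Nat.card_coe_set_eq, show Nat.card ↥((LinearMap.range (nmap (D.ρ t')) : Set V6)) = 4 from hcard]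
        have h3 : u + v0 ≠ 0 := fun e => hv'.2 (by
          have := congrArg (· + v0) e
          simpa [add_assoc, add_self_vec] using this)
        rw [Set.ncard_insert_of_notMem (by simp [v0_ne.symm, Ne.symm hv'.1, Ne.symm h3]),
          Set.ncard_insert_of_notMem (by
            simp only [Set.mem_insert_iff, Set.mem_singleton_iff, not_or]
            exact ⟨Ne.symm hv'.2, fun e => hv'.1 (right_eq_add.1 e)⟩),
          Set.ncard_pair (fun e => v0_ne (left_eq_add.1 e))]
    have hwv : B6 w v0 = 0 := by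
      rw [← hw, B6, ← form_nmap, hw]; exact Q_v0
    have hwu : B6 w u = 0 := by
      rw [hu, B6, polar_nmap hsq', hw, polar_comm]; exact hv
    refine v0_ne (hQ6.1 v0 fun x => ?_)
    show polar (⇑Q6) v0 x = 0
    rw [← hw, ← polar_nmap hsq']
    have hx : nmap (D.ρ t') x ∈ ({0, v0, u, u + v0} : Set V6) := hset ▸ ⟨x, rfl⟩
    rcases hx with e | e | e | e <;> rw [e]
    · rw [polar_zero_right]
    · exact hwv
    · exact hwu
    · rw [polar_add_right, show polar (⇑Q6) w u = 0 from hwu, show polar (⇑Q6) w v0 = 0 from hwv, add_zero]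

/-- The product of an element of `C_R(z)` with one of `C_Q(s)`, squared. -/
theorem sq_prod {r x : G} (hr : r ∈ fixIn F.R z) (hx : x ∈ Q) (hxs : Commute x F.s) :
    r * x * (r * x) = el z F.s (B6 (F.av r) (D.c x) + Q6 (D.c x)) (Q6 (F.av r) + B6 (F.av r) (D.c x)) := by
  have hS := sig_of_mem hr
  have h1 := inv_of_el (F := F) (comm_RQ hr hx hxs)
  generalize hd : B6 (F.av r) (D.c x) = d at h1 ⊢
  have h2 : r⁻¹ * x * r * x⁻¹ = el z F.s d d := by
    rw [show r⁻¹ * x * r * x⁻¹ = r⁻¹ * (x * r * x⁻¹ * r⁻¹) * r by group, h1,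
      (F.el_commute hS.cz.inv_left hS.cs.inv_left d d).eq]
    group
  calc r * x * (r * x) = (r * r) * (r⁻¹ * x * r * x⁻¹) * (x * x) := by group
    _ = _ := by
      rw [sq_R hr, h2, D.coords.sq x hx, show pw z (Q6 (D.c x)) = el z F.s (Q6 (D.c x)) 0 by
        rw [el, pw_zero, mul_one], F.el_mul, F.el_mul, zero_add, add_zero]

/-- The standard element outside the class of `z`. -/
structure Std where
  r : G
  x : G
  hr : r ∈ fixIn F.R z
  hx : x ∈ Q
  hxs : Commute x F.s
  ha : Eqv (F.av r) aa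
  hb : Eqv (D.c x) bb

theorem exists_std : Nonempty (Std F) := by
  obtain ⟨r, hr, ha⟩ := F.exists_r B_aa
  obtain ⟨x, hx, hb⟩ := D.coords.surj bb
  exact ⟨⟨r, x, hr, hx, (F.commute_s_iff hx).2 (hb ▸ B_bb), ha, Or.inl hb⟩⟩

variable {F}

theorem Std.eq_el_mul (T T' : Std F) : ∃ i j, T'.r * T'.x = el z F.s i j * (T.r * T.x) := by
  have hS := sig_of_mem T.hr
  have hS' := sig_of_mem T'.hr
  have hρ := hS'.rho_eq hS (T'.ha.trans T.ha.symm)
  have hc : Commute (T'.r * T.r⁻¹) z := hS'.cz.mul_left hS.cz.inv_left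
  have hQ : T'.r * T.r⁻¹ ∈ Q := (D.ρ_ker hc).1 (by
    rw [D.ρ_mul hS'.cz hS.cz.inv_left, D.rho_inv hS.cz, hρ, mul_inv_cancel])
  obtain ⟨i, j, hij⟩ := F.eq_el_of_small hQ
    (F.inter_small hQ (mul_mem (mem_fixIn.1 T'.hr).1 (inv_mem (mem_fixIn.1 T.hr).1)))
  have hx : Eqv (D.c (T'.x * T.x⁻¹)) 0 := by
    rw [D.coords.mul _ T'.hx _ (inv_mem T.hx), D.coords.c_inv T.hx]
    rcases T'.hb.trans T.hb.symm with e | e <;> rw [e]
    · exact Or.inl (add_self_vec _)
    · right; rw [add_comm (D.c T.x), add_assoc, add_self_vec, add_zero, zero_add]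
  obtain ⟨k, l, hkl⟩ := F.eq_el_of_small (mul_mem T'.hx (inv_mem T.hx)) hx
  refine ⟨i + k, j + l, ?_⟩
  calc T'.r * T'.x = (T'.r * T.r⁻¹) * (T.r * (T'.x * T.x⁻¹) * T.r⁻¹) * (T.r * T.x) := by group
    _ = _ := by rw [hij, hkl, (F.el_commute hS.cz hS.cs k l).eq, mul_inv_cancel_right, F.el_mul]

theorem Std.isConj (T T' : Std F) : IsConj (T.r * T.x) (T'.r * T'.x) := by
  obtain ⟨i, j, e⟩ := T.eq_el_mul T'
  obtain ⟨k, hk, hck⟩ := D.coords.surj ((i + j) • aa + j • bb)
  have hcv : B6 (D.c k) v0 = 0 := by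
    rw [hck, B6, polar_add_left, polar_smul_left, polar_smul_left, show polar (⇑Q6) aa v0 = 0 from B_aa,
      show polar (⇑Q6) bb v0 = 0 from B_bb, smul_zero, smul_zero, add_zero]
  have hks := (F.commute_s_iff hk).2 hcv
  have hS := sig_of_mem T.hr
  have hp : B6 (F.av T.r) (D.c k) = j := by
    rw [T.ha.polar_eq hcv, hck, B6, polar_add_right, polar_smul_right, polar_smul_right,
      polar_self_two, show polar (⇑Q6) aa bb = 1 from B_ab, smul_zero, zero_add, smul_eq_mul, mul_one]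
  have hq : B6 (D.c k) (D.c T.x) = i + j := by
    rw [B6, polar_comm]
    rw [show polar (⇑Q6) (D.c T.x) (D.c k) = B6 bb (D.c k) from T.hb.polar_eq hcv, hck, B6, polar_add_right, polar_smul_right, polar_smul_right,
      polar_self_two, show polar (⇑Q6) bb aa = 1 from (polar_comm _ _ _).trans B_ab, smul_zero, add_zero,
      smul_eq_mul, mul_one]
  refine isConj_iff.2 ⟨k, ?_⟩
  have h1 := comm_RQ T.hr hk hks
  rw [hp] at h1
  have h2 : k * T.x * k⁻¹ * T.x⁻¹ = el z F.s (i + j) 0 := by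
    rw [D.coords.comm _ hk _ T.hx, el, pw_zero, mul_one,
      show polar (⇑Q6) (D.c k) (D.c T.x) = i + j from hq]
  calc k * (T.r * T.x) * k⁻¹ =
        (k * T.r * k⁻¹ * T.r⁻¹) * (T.r * (k * T.x * k⁻¹ * T.x⁻¹) * T.r⁻¹) * (T.r * T.x) := by group
    _ = _ := by
      rw [inv_of_el h1, h2, (F.el_commute hS.cz hS.cs _ _).eq, mul_inv_cancel_right, F.el_mul, e]
      congr 2 <;> first | rw [add_zero] | rw [add_comm i j, ← add_assoc, zadd2, zero_add]

theorem Std.sq (T : Std F) : (T.r * T.x) * (T.r * T.x) = 1 := by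
  have hxp := T.hb.perp B_bb
  have e3 : B6 (F.av T.r) (D.c T.x) = 1 := by
    rw [T.ha.polar_eq hxp, B6, polar_comm]
    exact (T.hb.polar_eq B_aa).trans ((polar_comm _ _ _).trans B_ab)
  rw [F.sq_prod T.hr T.hx T.hxs, T.ha.form_eq B_aa, T.hb.form_eq B_bb, e3, Q_aa, Q_bb, zadd2,
    F.el_zero]

theorem Std.not_mem (T : Std F) : T.r * T.x ∉ Q := fun h => by
  have hr : T.r ∈ Q := by
    have := mul_mem h (inv_mem T.hx)
    rwa [mul_inv_cancel_right] at this
  have h0 : F.av T.r = 0 := by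
    rw [av, (D.ρ_ker (sig_of_mem T.hr).cz).2 hr, nmap_apply, act_one, add_self_vec]
  have := T.ha.form_eq B_aa
  rw [h0, Q_aa, QuadraticMap.map_zero] at this
  exact zero_ne_one this

theorem Std.cz (T : Std F) : Commute (T.r * T.x) z :=
  (sig_of_mem T.hr).cz.mul_left (D.setup.z_commute T.hx).symm

/-- An involution of `C(z)` outside `Q` is conjugate to `z` or to the standard element. -/
theorem classify (T : Std F) {t : G} (hz : Commute t z) (h2 : t * t = 1) (hQ : t ∉ Q) :
    IsConj z t ∨ IsConj (T.r * T.x) t := by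
  obtain ⟨u, hu, h2u, hS, hQu⟩ := F.exists_sig hz h2 hQ
  suffices h : IsConj z u ∨ IsConj (T.r * T.x) u from h.imp (·.trans hu.symm) (·.trans hu.symm)
  have hu1 : u ≠ 1 := fun e => hQu (e ▸ one_mem Q)
  obtain ⟨r, hr, he⟩ := F.exists_r hS.av_perp
  have hSr := sig_of_mem hr
  have hρ := hSr.rho_eq hS he
  set x := r⁻¹ * u with hxdef
  have hxz : Commute x z := hSr.cz.inv_left.mul_left hS.cz
  have hxQ : x ∈ Q := (D.ρ_ker hxz).1 (by
    rw [D.ρ_mul hSr.cz.inv_left hS.cz, D.rho_inv hSr.cz, hρ, inv_mul_cancel])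
  have hxs : Commute x F.s := hSr.cs.inv_left.mul_left hS.cs
  have hux : u = r * x := (mul_inv_cancel_left r u).symm
  have hsq := F.sq_prod hr hxQ hxs
  rw [← hux, h2u] at hsq
  obtain ⟨e1, e2⟩ := F.el_inj (F.el_zero.trans hsq)
  have hbp : B6 (D.c x) v0 = 0 := (F.commute_s_iff hxQ).1 hxs
  have hap := hSr.av_perp
  rcases z2 (Q6 (F.av r)) with hqa | hqa
  · left
    rw [hqa, zero_add] at e2
    rw [← e2, zero_add] at e1
    have ha0 : F.av r ≠ 0 ∧ F.av r ≠ v0 := by
      have key : ¬ Eqv (F.av r) 0 := fun h => hQu ((D.ρ_ker hS.cz).1 (by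
        rw [← hρ]
        refine eq_one_of_fix_hyp fun v hv => ?_
        rw [act_eq_add, hSr.nmap_eq hv, h.polar_eq hv, B6, polar_zero_left, zero_smul, add_zero]))
      exact ⟨fun e => key (Or.inl e), fun e => key (Or.inr (by rw [e, zero_add]))⟩
    rcases eq_of_singular hqa e1.symm hap hbp e2.symm ha0.1 ha0.2 with e | e | e | e
    · obtain ⟨i, j, hij⟩ := F.eq_el_of_small hxQ (Or.inl e)
      exact F.isConj_of_mem_R (by rw [hux, hij]; exact mul_mem (mem_fixIn.1 hr).1 (F.el_mem i j).2) h2u hu1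
    · obtain ⟨i, j, hij⟩ := F.eq_el_of_small hxQ (Or.inr (by rw [e, zero_add]))
      exact F.isConj_of_mem_R (by rw [hux, hij]; exact mul_mem (mem_fixIn.1 hr).1 (F.el_mem i j).2) h2u hu1
    all_goals
      obtain ⟨hq, hqs, hqc⟩ := qel_spec hr
      obtain ⟨i, j, hij⟩ := F.eq_el_of_small (mul_mem (inv_mem hq) hxQ) (by
        rw [D.coords.mul _ (inv_mem hq) _ hxQ, D.coords.c_inv hq, hqc, e]
        first
          | exact Or.inl (add_self_vec _)
          | exact Or.inr (by rw [← add_assoc, add_self_vec]))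
      have hy : F.y⁻¹ * u * F.y ∈ F.R := by
        rw [show F.y⁻¹ * u * F.y = r * (F.y⁻¹ * ((F.qel r)⁻¹ * x) * F.y) by rw [hux, qel]; group, hij]
        refine mul_mem (mem_fixIn.1 hr).1 ?_
        rcases D.setup.conj_cases (inv_mem F.hy) (F.el_mem i j).1 with e' | e' <;> rw [inv_inv] at e' <;>
          rw [e']
        exacts [(F.el_mem i j).2, mul_mem F.pair.z_mem_right (F.el_mem i j).2]
      have h2y : F.y⁻¹ * u * F.y * (F.y⁻¹ * u * F.y) = 1 := by
        rw [show F.y⁻¹ * u * F.y * (F.y⁻¹ * u * F.y) = F.y⁻¹ * (u * u) * F.y by group, h2u]; group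
      refine (F.isConj_of_mem_R hy h2y fun e' => hu1 ?_).trans (isConj_iff.2 ⟨F.y, by group⟩)
      have := congrArg (fun w => F.y * w * F.y⁻¹) e'
      simpa [mul_assoc] using this
  · right
    rw [hqa] at e2
    have hB : B6 (F.av r) (D.c x) = 1 := by
      revert e2; generalize B6 (F.av r) (D.c x) = d; revert d; decide
    rw [hB] at e1
    have hqb : Q6 (D.c x) = 1 := by
      revert e1; generalize Q6 (D.c x) = d; revert d; decide
    obtain ⟨γ, hγ, hfix, hga, hgb⟩ := exists_to_pair hqa hqb hap hbp hB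
    obtain ⟨g, hgz, hgs, rfl⟩ := F.exists_lift hγ hfix
    have hr' : g * r * g⁻¹ ∈ fixIn F.R z :=
      mem_fixIn.2 ⟨F.pair.right.conj_mem hgs (mem_fixIn.1 hr).1, (hgz.mul_left hSr.cz).mul_left hgz.inv_left⟩
    have hav : Eqv (F.av (g * r * g⁻¹)) (act (D.ρ g) (F.av r)) := by
      rw [av, av, D.ρ_mul (hgz.mul_left hSr.cz) hgz.inv_left, D.ρ_mul hgz hSr.cz, D.rho_inv hgz]
      set v := act (D.ρ g)⁻¹ yy + yy with hv
      have hvp : B6 v v0 = 0 := by
        have hfix' : act (D.ρ g)⁻¹ v0 = v0 := by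
          conv_lhs => rw [← hfix, act_inv_act]
        rw [hv, B6, polar_add_left]
        conv_lhs => arg 1; rw [← hfix', act_polar]
        exact zadd2 _
      have hy : act (D.ρ g) (yy + v) = yy := by
        rw [hv, add_comm _ yy, ← add_assoc yy, add_self_vec, zero_add, act_act_inv]
      conv in (nmap (D.ρ g * D.ρ r * (D.ρ g)⁻¹) yy) => rw [← hy]
      rw [nmap_conj, map_add, act_add]
      rcases hSr.small v hvp with e | e <;> rw [e]
      · rw [act_zero, add_zero]; exact Or.inl rfl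
      · rw [hfix]; exact Or.inr rfl
    let T' : Std F := ⟨g * r * g⁻¹, g * x * g⁻¹, hr', D.setup.conj_mem hgz hxQ,
      (hgs.mul_left hxs).mul_left hgs.inv_left, hav.trans hga, by
        rw [← D.ρ_act hgz hxQ]; exact hgb⟩
    exact (T.isConj T').trans (isConj_iff.2 ⟨g⁻¹, by simp only [T', hux]; group⟩)

/-- The standard element is not conjugate to `z`. -/
theorem Std.not_isConj (T : Std F) : ¬ IsConj z (T.r * T.x) := by
  classical
  intro hconj
  obtain ⟨g, hg⟩ := isConj_iff.1 hconj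
  set t := T.r * T.x with ht
  have h2t : t * t = 1 := T.sq
  have hS := sig_of_mem T.hr
  have htz : Commute t z := T.cz
  set U := Q.map (MulAut.conj g).toMonoidHom with hU
  have SU : Setup U t := hg ▸ D.setup.conj g
  have hUcard : 32 ≤ Nat.card U := by
    rw [hU, Subgroup.card_map_of_injective (MulAut.conj g).injective, D.card]; norm_num
  have key : ∀ k : G, k * t * k⁻¹ ∈ U → k * t * k⁻¹ ≠ t →
      t ∈ U.map (MulAut.conj k).toMonoidHom := fun k hm hne => (SU.pair hUcard hm hne).z_mem_right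
  have hmap : ∀ k : G, U.map (MulAut.conj k).toMonoidHom = Q.map (MulAut.conj (k * g)).toMonoidHom := fun k => by
    rw [hU, Subgroup.map_map]; congr 1; ext; simp [mul_assoc]
  have hQid : Q.map (MulAut.conj (1 : G)).toMonoidHom = Q := by
    rw [map_one]; exact Subgroup.map_id Q
  have htQ : t ∉ Q := T.not_mem
  have hxp := T.hb.perp B_bb
  have hne1 : ∀ w ∈ Q, t ≠ w := fun w hw e => htQ (e ▸ hw)
  have hz_not : z ∉ U := fun hm => by
    have e : g⁻¹ * t * g⁻¹⁻¹ = z := by rw [← hg]; group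
    have := key g⁻¹ (by rw [e]; exact hm) (by rw [e]; exact (hne1 z D.setup.z_mem).symm)
    rw [hmap, inv_mul_cancel, hQid] at this
    exact htQ this
  have hnotR : t ∉ F.R := fun hm => by
    have h1 : T.x ∈ F.R := by
      have := mul_mem (inv_mem (mem_fixIn.1 T.hr).1) hm
      rwa [ht, inv_mul_cancel_left] at this
    have := (T.hb.symm.trans (F.inter_small T.hx h1)).form_eq
      (show B6 (0 : V6) v0 = 0 by rw [B6, polar_zero_left])
    rw [Q_bb, QuadraticMap.map_zero] at this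
    exact one_ne_zero this
  have hs_not : F.s ∉ U := fun hm => by
    obtain ⟨k, hk, hR⟩ := F.pair.conj
    have e : k * g⁻¹ * t * (k * g⁻¹)⁻¹ = F.s := by rw [← hg, ← hk]; group
    have := key (k * g⁻¹) (by rw [e]; exact hm) (by rw [e]; exact (hne1 _ F.pair.mem).symm)
    rw [hmap, inv_mul_cancel_right, ← hR] at this
    exact hnotR this
  have hzs_not : z * F.s ∉ U := fun hm => by
    obtain ⟨k, hk, hR⟩ := F.pair.conj
    have e : F.y * k * g⁻¹ * t * (F.y * k * g⁻¹)⁻¹ = z * F.s := by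
      rw [← hg, ← F.conj_y_s, ← hk]; group
    have := key (F.y * k * g⁻¹) (by rw [e]; exact hm)
      (by rw [e]; exact (hne1 _ (mul_mem D.setup.z_mem F.pair.mem)).symm)
    rw [hmap, inv_mul_cancel_right] at this
    obtain ⟨q, hq, hqe⟩ := this
    replace hqe : F.y * k * q * (F.y * k)⁻¹ = t := hqe
    have htW : F.y⁻¹ * t * F.y ∈ F.R := by
      rw [hR, ← hqe]; exact ⟨q, hq, by simp [mul_assoc]⟩
    obtain ⟨hqQ, hqs, hqc⟩ := qel_spec T.hr
    set e' := F.y⁻¹ * ((F.qel T.r)⁻¹ * T.x) * F.y with he'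
    have heR : e' ∈ F.R := by
      have h1 : F.y⁻¹ * t * F.y = T.r * e' := by rw [he', ht, qel]; group
      have := mul_mem (inv_mem (mem_fixIn.1 T.hr).1) (h1 ▸ htW)
      rwa [inv_mul_cancel_left] at this
    have hm2 := mul_mem (inv_mem hqQ) T.hx
    have heQ : e' ∈ Q := mul_mem (mul_mem (inv_mem F.hy) hm2) F.hy
    have hc : D.c e' = F.av T.r + D.c T.x := by
      rw [he', D.coords.mul _ (mul_mem (inv_mem F.hy) hm2) _ F.hy, D.coords.mul _ (inv_mem F.hy) _ hm2,
        D.coords.c_inv F.hy, D.coords.mul _ (inv_mem hqQ) _ T.hx, D.coords.c_inv hqQ, hqc,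
        add_comm (D.c F.y), add_assoc, add_self_vec, add_zero]
    have h0 := F.inter_small heQ heR
    rw [hc] at h0
    have h1 := h0.form_eq (show B6 (0 : V6) v0 = 0 by rw [B6, polar_zero_left])
    rw [QuadraticMap.map_add ⇑Q6, T.ha.form_eq B_aa, T.hb.form_eq B_bb, Q_aa, Q_bb,
      show polar (⇑Q6) (F.av T.r) (D.c T.x) = 1 by
        rw [show polar (⇑Q6) (F.av T.r) (D.c T.x) = B6 aa (D.c T.x) from T.ha.polar_eq hxp, B6, polar_comm]
        exact (T.hb.polar_eq B_aa).trans ((polar_comm _ _ _).trans B_ab),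
      QuadraticMap.map_zero] at h1
    revert h1; decide
  -- elements of `U` centralise `t`
  have hUt : ∀ w ∈ U, Commute w t := fun w hw => (SU.z_commute hw).symm
  have hUnorm : ∀ x, Commute x t → ∀ w ∈ U, x * w * x⁻¹ ∈ U := fun x hx w hw => SU.conj_mem hx hw
  have hS3 : ∀ v, B6 v v0 = 0 → B6 v aa = 0 → B6 v bb = 0 →
      ∃ x ∈ Q, D.c x = v ∧ Commute x t := by
    intro v h0 h1 h2
    obtain ⟨x, hx, rfl⟩ := D.coords.surj v
    refine ⟨x, hx, rfl, Commute.mul_right ?_ ?_⟩
    · have hxs := (F.commute_s_iff hx).2 h0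
      have e := comm_RQ T.hr hx hxs
      rw [T.ha.polar_eq h0, show B6 aa (D.c x) = 0 from (polar_comm _ _ _).trans h1, F.el_zero,
        mul_inv_eq_one, mul_inv_eq_iff_eq_mul] at e
      exact e.symm
    · refine (D.commute_iff hx T.hx).2 ?_
      rw [B6, polar_comm]
      rw [show polar (⇑Q6) (D.c T.x) (D.c x) = B6 bb (D.c x) from T.hb.polar_eq h0]
      exact (polar_comm _ _ _).trans h2
  have hI : ∀ e ∈ Q, e ∈ U → e = 1 := by
    intro e heQ heU
    have het := hUt e heU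
    have hperp : ∀ v, B6 v v0 = 0 → B6 v aa = 0 → B6 v bb = 0 → B6 (D.c e) v = 0 := by
      intro v h0 h1 h2
      obtain ⟨x, hx, rfl, hxt⟩ := hS3 v h0 h1 h2
      rw [← D.commute_iff heQ hx]
      have hm : x * e * x⁻¹ * e⁻¹ ∈ U := mul_mem (hUnorm x hxt e heU) (inv_mem heU)
      rcases D.setup.comm_cases hx heQ with e' | e'
      · rw [mul_inv_eq_one, mul_inv_eq_iff_eq_mul] at e'; exact (show Commute x e from e').symm
      · exact absurd (e' ▸ hm) hz_not
    have hzero : nmap (D.ρ T.r) (D.c e) = 0 := by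
      have h1 : D.ρ t = D.ρ T.r := by
        rw [ht, D.ρ_mul hS.cz (D.setup.z_commute T.hx).symm,
          (D.ρ_ker (D.setup.z_commute T.hx).symm).2 T.hx, mul_one]
      rw [← h1, nmap_apply, D.ρ_act htz heQ, het.symm.eq, mul_inv_cancel_right, add_self_vec]
    have hev : B6 (D.c e) v0 = 0 := by
      have : nmap (D.ρ T.r) bb = v0 := by
        rw [hS.nmap_eq B_bb, T.ha.polar_eq B_bb, B_ab, one_smul]
      rw [← this, B6, polar_nmap hS.inv, hzero, polar_zero_left]
    have heA : B6 (D.c e) (F.av T.r) = 0 := by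
      rw [av, B6, polar_nmap hS.inv, hzero, polar_zero_left]
    have hea : B6 (D.c e) aa = 0 := by
      rw [B6, polar_comm, ← show B6 (F.av T.r) (D.c e) = polar (⇑Q6) aa (D.c e) from T.ha.polar_eq hev,
        B6, polar_comm]
      exact heA
    have heb : B6 (D.c e) bb = 0 := by
      have hr1 := comm_RQ T.hr heQ ((F.commute_s_iff heQ).2 hev)
      rw [show B6 (F.av T.r) (D.c e) = 0 from (polar_comm _ _ _).trans heA, F.el_zero, mul_inv_eq_one,
        mul_inv_eq_iff_eq_mul] at hr1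
      have hx : Commute e T.x := by
        have := (show Commute T.r e from hr1).symm.inv_right.mul_right het
        rwa [ht, inv_mul_cancel_left] at this
      have := (D.commute_iff heQ T.hx).1 hx
      rw [B6, polar_comm, show polar (⇑Q6) (D.c T.x) (D.c e) = B6 bb (D.c e) from T.hb.polar_eq hev,
        B6, polar_comm] at this
      exact this
    obtain ⟨k, hk, hke⟩ := inSpan3_of_perp hperp
    have hsm : Eqv (D.c e) 0 := by
      have hb : ∀ k ∈ span3, k < 64 ∧ (orth k 16 = true → orth k 32 = true → same k 0 = true) := by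
        decide +kernel
      obtain ⟨hk', hk2⟩ := hb k hk
      rcases vc_same (hk2 (orth_true hk' (by norm_num) (hke ▸ hea)) (orth_true hk' (by norm_num) (hke ▸ heb)))
        with e' | e'
      · left; rw [← hke, e']; exact vc_zero
      · right; rw [← hke, e']; congr 1; exact vc_zero
    obtain ⟨i, j, rfl⟩ := F.eq_el_of_small heQ hsm
    rcases z2 i with rfl | rfl <;> rcases z2 j with rfl | rfl
    · exact F.el_zero
    · exact absurd (by rwa [el, pw_zero, pw_one, one_mul] at heU) hs_not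
    · exact absurd (by rwa [el, pw_zero, pw_one, mul_one] at heU) hz_not
    · exact absurd (by rwa [el, pw_one, pw_one] at heU) hzs_not
  -- the group `W2`
  set W2 := U ⊓ Subgroup.centralizer ({z} : Set G) with hW2
  have hW2z : ∀ w ∈ W2, Commute w z := fun w hw => Subgroup.mem_centralizer_singleton_iff.1 hw.2
  let φ : W2 →* O6 :=
    { toFun := fun w => D.ρ w
      map_one' := D.rho_one
      map_mul' := fun a b => D.ρ_mul (hW2z a a.2) (hW2z b b.2) }
  have hφ : Function.Injective φ := by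
    rw [injective_iff_map_eq_one]
    exact fun w hw => Subtype.ext (hI w ((D.ρ_ker (hW2z w w.2)).1 hw) w.2.1)
  have hφS : φ.range ≤ fixS3 := by
    rintro _ ⟨w, rfl⟩ v h0 h1 h2
    obtain ⟨x, hx, rfl, hxt⟩ := hS3 v h0 h1 h2
    have hwz := hW2z w w.2
    have hm1 : (w : G) * x * (w : G)⁻¹ * x⁻¹ ∈ Q := D.setup.comm_mem hwz hx
    have hm2 : (w : G) * x * (w : G)⁻¹ * x⁻¹ ∈ U := by
      rw [show (w : G) * x * (w : G)⁻¹ * x⁻¹ = (w : G) * (x * (w : G)⁻¹ * x⁻¹) by group]
      exact mul_mem w.2.1 (hUnorm x hxt _ (inv_mem w.2.1))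
    show act (D.ρ w) (D.c x) = D.c x
    rw [D.ρ_act hwz hx, mul_inv_eq_one.1 (hI _ hm1 hm2)]
  -- its order is a power of two, at least 16
  have hp : IsPGroup 2 W2 := SU.extraspecial.1.1.to_le inf_le_left
  obtain ⟨n, hn⟩ := hp.exists_card_eq
  have hge : 16 ≤ Nat.card W2 := by
    set z' := g⁻¹ * z * g with hz'
    have hc' : Commute z' z := by
      have h := (Commute.conj_iff g⁻¹).2 (show Commute z t from htz.symm)
      rw [inv_inv] at h
      rw [show g⁻¹ * t * g = z by rw [← hg]; group] at h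
      exact h
    have hnQ : z' ∉ Q := fun h => hz_not ⟨z', h, by simp [hz', mul_assoc]⟩
    have h2' : z' * z' = 1 := by
      rw [hz', show g⁻¹ * z * g * (g⁻¹ * z * g) = g⁻¹ * (z * z) * g by group, F.zz]; group
    have hsqz := D.rho_sq hc' (h2' ▸ one_mem Q)
    obtain ⟨-, hU4⟩ := rk_eq_two (D.ρ_mem hc') hsqz fun e => hnQ ((D.ρ_ker hc').1 e)
    have hW2e : W2 = (Q ⊓ Subgroup.centralizer ({z'} : Set G)).map (MulAut.conj g).toMonoidHom := by
      ext w
      rw [Subgroup.mem_map_equiv, MulAut.conj_symm_apply, hW2, Subgroup.mem_inf, Subgroup.mem_inf,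
        hU, Subgroup.mem_map_equiv, MulAut.conj_symm_apply, Subgroup.mem_centralizer_singleton_iff,
        Subgroup.mem_centralizer_singleton_iff]
      refine and_congr_right fun _ => ?_
      rw [hz']
      constructor
      · intro h
        calc g⁻¹ * w * g * (g⁻¹ * z * g) = g⁻¹ * (w * z) * g := by group
          _ = g⁻¹ * (z * w) * g := by rw [h]
          _ = g⁻¹ * z * g * (g⁻¹ * w * g) := by group
      · intro h
        calc w * z = g * (g⁻¹ * w * g * (g⁻¹ * z * g)) * g⁻¹ := by group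
          _ = g * (g⁻¹ * z * g * (g⁻¹ * w * g)) * g⁻¹ := by rw [h]
          _ = z * w := by group
    rw [hW2e, Subgroup.card_map_of_injective (MulAut.conj g).injective]
    choose l hlQ hl using D.coords.surj
    let Y : Finset V6 := Finset.univ.filter fun v => v ∈ LinearMap.range (nmap (D.ρ z'))
    let S8 : Finset G := (Y ×ˢ (Finset.univ : Finset (ZMod 2))).image fun p => l p.1 * pw z p.2
    have hS8 : S8.card ≤ 8 := by
      refine Finset.card_image_le.trans ?_
      rw [Finset.card_product, Finset.card_univ, ZMod.card]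
      have : Y.card = 4 := by
        rw [← hU4, Nat.card_eq_fintype_card, Fintype.card_subtype]
      omega
    haveI := Fintype.ofFinite Q
    haveI := Fintype.ofFinite (Q ⊓ Subgroup.centralizer ({z'} : Set G) : Subgroup G)
    let f : Q → G := fun x => z' * x * z'⁻¹ * (x : G)⁻¹
    have hfib : ∀ v ∈ Finset.univ.image f, (Finset.univ.filter fun x => f x = v).card ≤
        Nat.card (Q ⊓ Subgroup.centralizer ({z'} : Set G) : Subgroup G) := by
      intro v hv
      obtain ⟨x0, -, rfl⟩ := Finset.mem_image.1 hv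
      rw [Nat.card_eq_fintype_card, ← Finset.card_univ]
      refine Finset.card_le_card_of_surjOn (fun c => (x0 : Q) * ⟨c.1, c.2.1⟩) fun x hx => ?_
      have hx' := (Finset.mem_filter.1 hx).2
      have hcom : (x0 : G)⁻¹ * x ∈ Subgroup.centralizer ({z'} : Set G) := by
        rw [Subgroup.mem_centralizer_singleton_iff]
        simp only [f] at hx'
        calc (x0 : G)⁻¹ * x * z' = (x0 : G)⁻¹ * (z' * x0 * z'⁻¹ * (x0 : G)⁻¹)⁻¹ *
              ((z' * x0 * z'⁻¹ * (x0 : G)⁻¹) * x) * z' := by group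
          _ = (x0 : G)⁻¹ * (z' * x0 * z'⁻¹ * (x0 : G)⁻¹)⁻¹ *
              ((z' * x * z'⁻¹ * (x : G)⁻¹) * x) * z' := by rw [hx']
          _ = z' * ((x0 : G)⁻¹ * x) := by group
      exact ⟨⟨(x0 : G)⁻¹ * x, Subgroup.mem_inf.2 ⟨Q.mul_mem (Q.inv_mem x0.2) x.2, hcom⟩⟩, Finset.mem_coe.2 (Finset.mem_univ _),
        Subtype.ext (mul_inv_cancel_left _ _)⟩
    have h1 := Finset.card_le_mul_card_image (f := f) Finset.univ _ hfib
    rw [Finset.card_univ, ← Nat.card_eq_fintype_card, D.card] at h1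
    have h2 : (Finset.univ.image f).card ≤ 8 := by
      refine le_trans (Finset.card_le_card fun v hv => ?_) hS8
      obtain ⟨x, -, rfl⟩ := Finset.mem_image.1 hv
      have hfQ : f x ∈ Q := D.setup.comm_mem hc' x.2
      have hcf : D.c (f x) = nmap (D.ρ z') (D.c x) := by
        rw [show f x = z' * x * z'⁻¹ * (x : G)⁻¹ from rfl, D.coords.mul _ (D.setup.conj_mem hc' x.2) _ (inv_mem x.2),
          D.coords.c_inv x.2, ← D.ρ_act hc' x.2, ← nmap_apply]
      have hmem := (D.coords.eq_iff (hlQ (D.c (f x))) hfQ).1 (hl _)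
      rcases D.setup.zpowers_cases hmem with e | e
      · exact Finset.mem_image.2 ⟨(D.c (f x), 0), Finset.mem_product.2
          ⟨Finset.mem_filter.2 ⟨Finset.mem_univ _, hcf ▸ ⟨_, rfl⟩⟩, Finset.mem_univ _⟩,
          by rw [pw_zero, mul_one]; exact inv_mul_eq_one.1 e⟩
      · exact Finset.mem_image.2 ⟨(D.c (f x), 1), Finset.mem_product.2
          ⟨Finset.mem_filter.2 ⟨Finset.mem_univ _, hcf ▸ ⟨_, rfl⟩⟩, Finset.mem_univ _⟩,
          by rw [pw_one]; exact (inv_mul_eq_iff_eq_mul.1 e).symm⟩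
    nlinarith
  have h16 : 16 ∣ Nat.card fixS3 := by
    have hdiv : Nat.card W2 ∣ Nat.card fixS3 := by
      rw [Nat.card_congr (MonoidHom.ofInjective hφ).toEquiv]
      exact Subgroup.card_dvd_of_le hφS
    have : 4 ≤ n := by
      by_contra h
      have : 2 ^ n ≤ 2 ^ 3 := Nat.pow_le_pow_right two_pos (by omega)
      omega
    exact (show 16 ∣ Nat.card W2 from hn ▸ (pow_dvd_pow 2 this : 2 ^ 4 ∣ 2 ^ n)).trans hdiv
  have h48 : 48 ∣ Nat.card fixS3 :=
    (by norm_num : Nat.Coprime 3 16).mul_dvd_of_dvd_of_dvd three_dvd_card_fixS3 h16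
  have := Nat.le_of_dvd Nat.card_pos h48
  have := card_fixS3_le
  omega

end Frame

/-- A group of Suzuki sporadic type has two classes of involutions. -/
theorem Sz.two_classes (D : Sz z Q) : ∃ a b : G, orderOf a = 2 ∧ orderOf b = 2 ∧ ¬ IsConj a b ∧
    ∀ x : G, orderOf x = 2 → IsConj x a ∨ IsConj x b := by
  obtain ⟨F⟩ := D.exists_frame
  obtain ⟨T⟩ := F.exists_std
  refine ⟨z, T.r * T.x, D.setup.orderOf_z,
    isConj_orderOf_two T.sq (fun e => T.not_mem (e ▸ one_mem Q)), T.not_isConj, fun x hx => ?_⟩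
  have h2 : x * x = 1 := by rw [← pow_two, ← hx, pow_orderOf_eq_one]
  obtain ⟨g, hg⟩ := conj_into_centralizer D.setup h2
  have hgx : IsConj x (g * x * g⁻¹) := isConj_iff.2 ⟨g, rfl⟩
  have h2g : g * x * g⁻¹ * (g * x * g⁻¹) = 1 := by
    rw [show g * x * g⁻¹ * (g * x * g⁻¹) = g * (x * x) * g⁻¹ by group, h2]; group
  have h1g : g * x * g⁻¹ ≠ 1 := fun e => by
    rw [conj_eq_one_iff] at e; rw [e, orderOf_one] at hx; omega
  by_cases hQ : g * x * g⁻¹ ∈ Q
  · exact Or.inl (hgx.trans (F.isConj_of_mem_Q hQ h2g h1g).symm)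
  · rcases Frame.classify T hg h2g hQ with e | e
    · exact Or.inl (hgx.trans e.symm)
    · exact Or.inr (hgx.trans e.symm)

end Cfsg.Agent.LargeExt10
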