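import Cfsg.Agent.LargeExt10.Model
import Cfsg.Agent.LargeExt10.Coord
import Cfsg.Agent.S0287
import Cfsg.Agent.Lib.LargeExtraspecial.Sections
import Cfsg.Agent.Lib.LargeExtraspecial.Pullback
import Cfsg.Agent.S0288

/-!
# Groups of Suzuki sporadic type: coordinates for `Q` and for `C(z) ⧸ Q`
-/

set_option autoImplicit false

namespace Cfsg.Agent.LargeExt10

open QuadraticMap Cfsg.Agent.Reflections Cfsg.Agent.LargeExtraspecial

variable {G : Type*} [Group G] [Finite G] {z : G} {Q : Subgroup G}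

/-- The data of a group of Suzuki sporadic type. -/
structure Sz (z : G) (Q : Subgroup G) where
  setup : Setup Q z
  card : Nat.card Q = 128
  c : G → V6
  coords : Coords Q6 z Q c
  ρ : G → O6
  ρ_mul : ∀ {g h : G}, Commute g z → Commute h z → ρ (g * h) = ρ g * ρ h
  ρ_act : ∀ {g x : G}, Commute g z → x ∈ Q → act (ρ g) (c x) = c (g * x * g⁻¹)
  ρ_ker : ∀ {g : G}, Commute g z → (ρ g = 1 ↔ g ∈ Q)
  ρ_mem : ∀ {g : G}, Commute g z → ρ g ∈ Cfsg.Omega (ZMod 2) ⇑Q6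
  ρ_surj : ∀ {γ : O6}, γ ∈ Cfsg.Omega (ZMod 2) ⇑Q6 → ∃ g, Commute g z ∧ ρ g = γ
  nwc : ∃ u ∈ Q, u ≠ z ∧ IsConj z u

theorem card_omega6 : Nat.card (Cfsg.Omega (ZMod 2) ⇑Q6) = 25920 ∧
    (Cfsg.Omega (ZMod 2) ⇑Q6).index = 2 := by
  have h1 : (Cfsg.Omega (ZMod 2) ⇑Q6).index = 2 :=
    omega_index_two (Q := Q6) hQ6 (Or.inr (by simp)) (by simp)
  have h2 := S0288.result (F := ZMod 2) (q := 2) (ZMod.card 2) 3 (by norm_num) 1 1 (by decide)
  rw [show (3 : ℕ) - 1 = 2 from rfl, ← coe_qMinus] at h2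
  have h3 := (Cfsg.Omega (ZMod 2) ⇑Q6).card_mul_index
  rw [h1] at h3
  rw [h2] at h3
  refine ⟨?_, h1⟩
  have : (2 * 2 ^ (3 * (3 - 1)) * (2 ^ 3 + 1) * ∏ i ∈ Finset.range 2, (2 ^ (2 * (i + 1)) - 1)) = 51840 := by
    decide
  rw [this] at h3
  omega

/-- The data, from the hypothesis of a group of Suzuki sporadic type. -/
theorem exists_sz (z : G) (hz : orderOf z = 2) (Q : Subgroup (Subgroup.centralizer ({z} : Set G))) [Q.Normal]
    (hF : Cfsg.generalizedFittingSubgroup (Subgroup.centralizer ({z} : Set G)) = Q)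
    (hQ : Cfsg.IsExtraspecial 2 Q) (hcard : Nat.card Q = 2 ^ 7)
    (e : (Subgroup.centralizer ({z} : Set G)) ⧸ Q ≃* Cfsg.Omega (ZMod 2) (Cfsg.quadFormMinus 2 (ZMod 2) 1 1))
    (hnwc : ∃ g : G, (∃ hq : g * z * g⁻¹ ∈ Subgroup.centralizer ({z} : Set G),
      (⟨g * z * g⁻¹, hq⟩ : Subgroup.centralizer ({z} : Set G)) ∈ Q) ∧ g * z * g⁻¹ ≠ z) :
    ∃ Q' : Subgroup G, Nonempty (Sz z Q') := by
  classical
  set Q' := Q.map (Subgroup.centralizer ({z} : Set G)).subtype with hQ'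
  have hle : Q' ≤ (Subgroup.centralizer ({z} : Set G)) := Subgroup.map_subtype_le Q
  have hE : Cfsg.IsExtraspecial 2 ↥Q' :=
    LargeExtraspecial.isExtraspecial_equiv (Q.equivMapOfInjective _ (Subgroup.centralizer ({z} : Set G)).subtype_injective) hQ
  have S := LargeExtraspecial.setup_of_centralizer hz hle (by rw [hF]) hE
  have hmem : ∀ h : (Subgroup.centralizer ({z} : Set G)), (h : G) ∈ Q' ↔ h ∈ Q := fun h =>
    Subgroup.mem_map_iff_mem (Subgroup.centralizer ({z} : Set G)).subtype_injective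
  have hc7 : Nat.card Q' = 128 := by
    rw [Subgroup.card_map_of_injective (Subgroup.centralizer ({z} : Set G)).subtype_injective, hcard]; rfl
  have hquot : Nat.card ((Subgroup.centralizer ({z} : Set G)) ⧸ Q) = 25920 := by
    rw [Nat.card_congr e.toEquiv, ← coe_qMinus 2 (ZMod 2) 1 1]
    exact card_omega6.1
  have hsub : ∀ (ι : Type) (inst : Fintype ι) (inst' : DecidableEq ι)
      (f : QuadraticForm (ZMod 2) (ι → ZMod 2)) (ρ : (Subgroup.centralizer ({z} : Set G)) →* ↥(Cfsg.isometryGroup (ZMod 2) ⇑f)),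
      (∀ g, ρ g = 1 ↔ (g : G) ∈ Q') → Nat.card ρ.range = 25920 := by
    intro ι _ _ f ρ hk
    have : ρ.ker = Q := Subgroup.ext fun g => by rw [MonoidHom.mem_ker, hk, hmem]
    rw [← Subgroup.index_ker, this, Subgroup.index_eq_card, hquot]
  rcases TwoFusionB.exists_coords hE (n := 3) (by norm_num) (by rw [hc7]; rfl) with ⟨c, hc⟩ | ⟨c, hc⟩
  · exfalso
    rw [← coe_qPlus 3 (ZMod 2)] at hc
    obtain ⟨c', hc'⟩ := coords_of S hc
    obtain ⟨ρ, -, hk⟩ := exists_rho S hc'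
    have h1 := Subgroup.card_subgroup_dvd_card ρ.range
    rw [hsub _ _ _ _ ρ hk] at h1
    rw [coe_qPlus, S0287.result (F := ZMod 2) (q := 2) (ZMod.card 2) 3 (by norm_num)] at h1
    revert h1
    decide
  · replace hc : TwoFusionB.XCoords (⇑Q6) c := by rw [coe_qMinus]; exact hc
    obtain ⟨c', hc'⟩ := coords_of S hc
    obtain ⟨ρ, hact, hk⟩ := exists_rho S hc'
    obtain ⟨hO, hOi⟩ := card_omega6
    have hcr : Nat.card ρ.range = 25920 := hsub _ _ _ _ ρ hk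
    have hri : ρ.range.index = 2 := by
      have h1 := ρ.range.card_mul_index
      have h2 := (Cfsg.Omega (ZMod 2) ⇑Q6).card_mul_index
      rw [hO, hOi] at h2
      rw [hcr, ← h2] at h1
      omega
    haveI := Subgroup.normal_of_index_eq_two hri
    have hle' : Cfsg.Omega (ZMod 2) ⇑Q6 ≤ ρ.range := by
      haveI : IsMulCommutative (↥(Cfsg.isometryGroup (ZMod 2) ⇑Q6) ⧸ ρ.range) := by
        haveI : Fact (Nat.Prime 2) := ⟨Nat.prime_two⟩
        haveI := isCyclic_of_prime_card (α := ↥(Cfsg.isometryGroup (ZMod 2) ⇑Q6) ⧸ ρ.range) (p := 2)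
          (by rw [← Subgroup.index_eq_card, hri])
        exact ⟨⟨fun a b => (IsCyclic.commGroup.mul_comm a b)⟩⟩
      rw [Cfsg.Omega, commutator_def, Subgroup.commutator_le]
      intro a _ b _
      rw [← QuotientGroup.eq_one_iff, commutatorElement_def, QuotientGroup.mk_mul, QuotientGroup.mk_mul,
        QuotientGroup.mk_mul, QuotientGroup.mk_inv, QuotientGroup.mk_inv]
      rw [IsMulCommutative.is_comm.comm ((a : ↥(Cfsg.isometryGroup (ZMod 2) ⇑Q6) ⧸ ρ.range)) b]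
      group
    have heq : Cfsg.Omega (ZMod 2) ⇑Q6 = ρ.range :=
      Subgroup.eq_of_le_of_card_ge hle' (by rw [hcr, hO])
    let ρ' : G → O6 := fun g => if hg : g ∈ (Subgroup.centralizer ({z} : Set G)) then ρ ⟨g, hg⟩ else 1
    have hρ : ∀ g (hg : g ∈ (Subgroup.centralizer ({z} : Set G))), ρ' g = ρ ⟨g, hg⟩ := fun g hg => dif_pos hg
    have cC : ∀ {g : G}, Commute g z → g ∈ (Subgroup.centralizer ({z} : Set G)) := fun h => Subgroup.mem_centralizer_singleton_iff.2 h.eq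
    obtain ⟨g, ⟨hq, hqQ⟩, hne⟩ := hnwc
    exact ⟨Q', ⟨{
      setup := S
      card := hc7
      c := c'
      coords := hc'
      ρ := ρ'
      ρ_mul := fun {g h} hg hh => by
        rw [hρ _ (cC hg), hρ _ (cC hh), hρ _ (mul_mem (cC hg) (cC hh)), ← map_mul]; rfl
      ρ_act := fun {g x} hg hx => by rw [hρ _ (cC hg)]; exact hact _ x hx
      ρ_ker := fun {g} hg => by rw [hρ _ (cC hg)]; exact hk _
      ρ_mem := fun {g} hg => by rw [hρ _ (cC hg), heq]; exact ⟨_, rfl⟩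
      ρ_surj := fun {γ} hγ => by
        rw [heq] at hγ
        obtain ⟨⟨g, hg⟩, rfl⟩ := hγ
        exact ⟨g, Subgroup.mem_centralizer_singleton_iff.1 hg, hρ _ hg⟩
      nwc := ⟨g * z * g⁻¹, (hmem ⟨_, hq⟩).2 hqQ, hne, isConj_iff.2 ⟨g, rfl⟩⟩ }⟩⟩

end Cfsg.Agent.LargeExt10
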