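import Cfsg.Agent.LargeExt10.Data

/-!
# A commuting pair `z, s` of conjugate involutions and the group between them
-/

set_option autoImplicit false

namespace Cfsg.Agent.LargeExt10

open QuadraticMap Cfsg.Agent.Reflections Cfsg.Agent.LargeExtraspecial
open Cfsg.Agent.Forms59.Inv (nmap add_self_vec nmap_apply polar_nmap act_eq_add)

/-- `z ^ i * s ^ j`. -/
def el {G : Type*} [Group G] (z s : G) (i j : ZMod 2) : G := pw z i * pw s j

/-- Equality modulo `v0`. -/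
def Eqv (u v : V6) : Prop := u = v ∨ u = v + v0

theorem Eqv.rfl' (u : V6) : Eqv u u := Or.inl rfl

theorem Eqv.symm {u v : V6} (h : Eqv u v) : Eqv v u := by
  rcases h with e | e
  · exact Or.inl e.symm
  · right; rw [e, add_assoc, add_self_vec, add_zero]

theorem Eqv.trans {u v w : V6} (h : Eqv u v) (h' : Eqv v w) : Eqv u w := by
  rcases h with e | e <;> rw [e] <;> rcases h' with e' | e' <;> rw [e']
  · exact Or.inl rfl
  · exact Or.inr rfl
  · exact Or.inr rfl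
  · left; rw [add_assoc, add_self_vec, add_zero]

theorem Eqv.map {u v : V6} (h : Eqv u v) {γ : O6} (hγ : act γ v0 = v0) : Eqv (act γ u) (act γ v) := by
  rcases h with e | e <;> rw [e]
  · exact Or.inl rfl
  · right; rw [act_add, hγ]

theorem Eqv.polar_eq {u v x : V6} (h : Eqv u v) (hx : B6 x v0 = 0) : B6 u x = B6 v x := by
  rcases h with e | e <;> rw [e]
  rw [B6, polar_add_left, polar_comm _ v0, show polar (⇑Q6) x v0 = 0 from hx, add_zero]

theorem Eqv.form_eq {u v : V6} (h : Eqv u v) (hv : B6 v v0 = 0) : Q6 u = Q6 v := by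
  rcases h with e | e <;> rw [e]
  rw [QuadraticMap.map_add ⇑Q6, Q_v0, show polar (⇑Q6) v v0 = 0 from hv, add_zero, add_zero]

theorem Eqv.perp {u v : V6} (h : Eqv u v) (hv : B6 v v0 = 0) : B6 u v0 = 0 :=
  (h.polar_eq (polar_self_two _ _)).trans hv

theorem zadd2 (a : ZMod 2) : a + a = 0 := CharTwo.add_self_eq_zero a

variable {G : Type*} [Group G] [Finite G] {z : G} {Q : Subgroup G}

/-- A frame. -/
structure Frame (D : Sz z Q) where
  s : G
  R : Subgroup G
  y : G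
  pair : Pair Q R z s
  hs : D.c s = v0
  hy : y ∈ Q
  hcy : D.c y = yy

namespace Sz

variable (D : Sz z Q)

theorem c_z : D.c z = 0 := (D.coords.ker z D.setup.z_mem).2 (Subgroup.mem_zpowers z)

theorem sq_eq_one {x : G} (hx : x ∈ Q) : x * x = 1 ↔ Q6 (D.c x) = 0 := by
  rw [D.coords.sq x hx]
  exact ⟨pw_eq_one D.setup.z_ne_one, fun e => by rw [e, pw_zero]⟩

theorem commute_iff {x y : G} (hx : x ∈ Q) (hy : y ∈ Q) :
    Commute x y ↔ B6 (D.c x) (D.c y) = 0 := by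
  constructor
  · intro h
    refine pw_eq_one D.setup.z_ne_one ?_
    rw [← D.coords.comm x hx y hy, h.eq]; group
  · intro h
    have e := D.coords.comm x hx y hy
    rw [show polar (⇑Q6) (D.c x) (D.c y) = 0 from h, pw_zero, mul_inv_eq_one,
      mul_inv_eq_iff_eq_mul] at e
    exact e

theorem rho_one : D.ρ 1 = 1 := (D.ρ_ker (Commute.one_left z)).2 (one_mem _)

theorem rho_inv {g : G} (hg : Commute g z) : D.ρ g⁻¹ = (D.ρ g)⁻¹ := by
  refine eq_inv_of_mul_eq_one_left ?_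
  rw [← D.ρ_mul hg.inv_left hg, inv_mul_cancel, D.rho_one]

theorem rho_sq {g : G} (hg : Commute g z) (h : g * g ∈ Q) : D.ρ g * D.ρ g = 1 := by
  rw [← D.ρ_mul hg hg]; exact (D.ρ_ker (hg.mul_left hg)).2 h

theorem exists_frame : Nonempty (Frame D) := by
  obtain ⟨u, hu, hne, hc⟩ := D.nwc
  obtain ⟨g, rfl⟩ := isConj_iff.1 hc
  have hcu : D.c (g * z * g⁻¹) ≠ 0 := fun e => by
    rcases D.setup.zpowers_cases ((D.coords.ker _ hu).1 e) with e' | e'
    · rw [conj_eq_one_iff] at e'; exact D.setup.z_ne_one e'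
    · exact hne e'
  have hq : Q6 (D.c (g * z * g⁻¹)) = 0 := (D.sq_eq_one hu).1 (by
    rw [show g * z * g⁻¹ * (g * z * g⁻¹) = g * (z * z) * g⁻¹ by group, D.setup.z_mul_self]; group)
  obtain ⟨γ, hγ, hγu⟩ := exists_to_v0 hcu hq
  obtain ⟨k, hk, rfl⟩ := D.ρ_surj hγ
  have e1 : k * (g * z * g⁻¹) * k⁻¹ = (k * g) * z * (k * g)⁻¹ := by group
  have hmem : (k * g) * z * (k * g)⁻¹ ∈ Q := e1 ▸ D.setup.conj_mem hk hu
  have hne' : (k * g) * z * (k * g)⁻¹ ≠ z := fun e => by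
    rw [← e1, mul_inv_eq_iff_eq_mul, ← hk.eq] at e
    exact hne (mul_left_cancel e)
  obtain ⟨y, hy, hcy⟩ := D.coords.surj yy
  exact ⟨⟨_, _, y, D.setup.pair (by rw [D.card]; norm_num) hmem hne',
    by rw [← e1, ← D.ρ_act hk hu, hγu], hy, hcy⟩⟩

end Sz

namespace Frame

variable {D : Sz z Q} (F : Frame D)

theorem zz (_F : Frame D) : z * z = 1 := D.setup.z_mul_self
theorem ss : F.s * F.s = 1 := F.pair.right.z_mul_self
theorem czs : Commute z F.s := F.pair.comm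

theorem perp_v0 (_F : Frame D) : B6 v0 v0 = 0 := polar_self_two _ _

theorem conj_y_s : F.y * F.s * F.y⁻¹ = z * F.s := by
  have e := D.coords.comm F.y F.hy F.s F.pair.mem
  rw [F.hcy, F.hs, show polar (⇑Q6) yy v0 = 1 from B_yy, pw_one] at e
  exact mul_inv_eq_iff_eq_mul.1 e

theorem conj_y_z : F.y * z * F.y⁻¹ = z := by
  rw [← (D.setup.z_commute F.hy).eq, mul_inv_cancel_right]

theorem y_zs : F.y * (z * F.s) * F.y⁻¹ = F.s := by
  rw [show F.y * (z * F.s) * F.y⁻¹ = (F.y * z * F.y⁻¹) * (F.y * F.s * F.y⁻¹) by group, F.conj_y_z,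
    F.conj_y_s, ← mul_assoc, F.zz, one_mul]

theorem el_mul (i j i' j' : ZMod 2) :
    el z F.s i j * el z F.s i' j' = el z F.s (i + i') (j + j') := by
  have hc : Commute (pw F.s j) (pw z i') := by
    rcases pw_cases F.s j with ⟨-, e⟩ | ⟨-, e⟩ <;> rw [e]
    · exact Commute.one_left _
    · rcases pw_cases z i' with ⟨-, e'⟩ | ⟨-, e'⟩ <;> rw [e']
      · exact Commute.one_right _
      · exact F.czs.symm
  rw [el, el, el, ← pw_mul F.zz, ← pw_mul F.ss]
  calc pw z i * pw F.s j * (pw z i' * pw F.s j') = pw z i * (pw F.s j * pw z i') * pw F.s j' := by group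
    _ = pw z i * (pw z i' * pw F.s j) * pw F.s j' := by rw [hc.eq]
    _ = _ := by group

theorem el_zero : el z F.s 0 0 = 1 := by rw [el, pw_zero, pw_zero, one_mul]

theorem el_inv (i j : ZMod 2) : (el z F.s i j)⁻¹ = el z F.s i j :=
  inv_eq_of_mul_eq_one_left (by rw [F.el_mul, zadd2, zadd2, F.el_zero])

theorem el_mem (i j : ZMod 2) : el z F.s i j ∈ Q ∧ el z F.s i j ∈ F.R := by
  refine ⟨mul_mem ?_ ?_, mul_mem ?_ ?_⟩
  · rcases pw_cases z i with ⟨-, e⟩ | ⟨-, e⟩ <;> rw [e]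
    exacts [one_mem _, D.setup.z_mem]
  · rcases pw_cases F.s j with ⟨-, e⟩ | ⟨-, e⟩ <;> rw [e]
    exacts [one_mem _, F.pair.mem]
  · rcases pw_cases z i with ⟨-, e⟩ | ⟨-, e⟩ <;> rw [e]
    exacts [one_mem _, F.pair.z_mem_right]
  · rcases pw_cases F.s j with ⟨-, e⟩ | ⟨-, e⟩ <;> rw [e]
    exacts [one_mem _, F.pair.right.z_mem]

theorem el_commute {g : G} (hz : Commute g z) (hs : Commute g F.s) (i j : ZMod 2) :
    Commute g (el z F.s i j) := by
  refine Commute.mul_right ?_ ?_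
  · rcases pw_cases z i with ⟨-, e⟩ | ⟨-, e⟩ <;> rw [e]
    exacts [Commute.one_right _, hz]
  · rcases pw_cases F.s j with ⟨-, e⟩ | ⟨-, e⟩ <;> rw [e]
    exacts [Commute.one_right _, hs]

theorem c_el (i j : ZMod 2) : D.c (el z F.s i j) = j • v0 := by
  have h1 : pw z i ∈ Q ∧ D.c (pw z i) = 0 := by
    rcases pw_cases z i with ⟨-, e⟩ | ⟨-, e⟩ <;> rw [e]
    exacts [⟨one_mem _, D.coords.c_one⟩, ⟨D.setup.z_mem, D.c_z⟩]
  have h2 : pw F.s j ∈ Q ∧ D.c (pw F.s j) = j • v0 := by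
    rcases pw_cases F.s j with ⟨d, e⟩ | ⟨d, e⟩ <;> rw [e, d]
    exacts [⟨one_mem _, by rw [D.coords.c_one, zero_smul]⟩, ⟨F.pair.mem, by rw [F.hs, one_smul]⟩]
  rw [el, D.coords.mul _ h1.1 _ h2.1, h1.2, h2.2, zero_add]

theorem el_inj {i j i' j' : ZMod 2} (h : el z F.s i j = el z F.s i' j') : i = i' ∧ j = j' := by
  have h1 := congrArg D.c h
  rw [F.c_el, F.c_el] at h1
  have hj : j = j' := by
    have := congrArg (fun v => B6 yy v) h1
    simpa [B6, polar_smul_right, show polar (⇑Q6) yy v0 = 1 from B_yy] using this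
  subst hj
  exact ⟨pw_inj D.setup.z_ne_one (mul_right_cancel h), rfl⟩

theorem eq_el {x : G} (hx : x ∈ Q) {j : ZMod 2} (h : D.c x = j • v0) : ∃ i, x = el z F.s i j := by
  have h1 := (D.coords.eq_iff (F.el_mem 0 j).1 hx).1 (by rw [F.c_el, h])
  rw [F.el_inv] at h1
  have hx' : x = el z F.s 0 j * (el z F.s 0 j * x) := by
    rw [← mul_assoc, F.el_mul, zadd2, zadd2, F.el_zero, one_mul]
  rcases D.setup.zpowers_cases h1 with e | e
  · exact ⟨0, by rw [hx', e, mul_one]⟩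
  · refine ⟨1, ?_⟩
    have hz1 : el z F.s 1 0 = z := by rw [el, pw_one, pw_zero, mul_one]
    calc x = el z F.s 0 j * (el z F.s 0 j * x) := hx'
      _ = el z F.s 0 j * z := by rw [e]
      _ = el z F.s 0 j * el z F.s 1 0 := (congrArg (el z F.s 0 j * ·) hz1).symm
      _ = el z F.s 1 j := by rw [F.el_mul, zero_add, add_zero]

theorem eq_el_of_small {x : G} (hx : x ∈ Q) (h : Eqv (D.c x) 0) : ∃ i j, x = el z F.s i j := by
  rcases h with e | e
  · obtain ⟨i, hi⟩ := F.eq_el hx (j := 0) (by rw [e, zero_smul])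
    exact ⟨i, 0, hi⟩
  · obtain ⟨i, hi⟩ := F.eq_el hx (j := 1) (by rw [e, zero_add, one_smul])
    exact ⟨i, 1, hi⟩

theorem commute_s_iff {x : G} (hx : x ∈ Q) : Commute x F.s ↔ B6 (D.c x) v0 = 0 := by
  rw [D.commute_iff hx F.pair.mem, F.hs]

theorem rho_fix {g : G} (hz : Commute g z) (hs : Commute g F.s) : act (D.ρ g) v0 = v0 := by
  rw [← F.hs, D.ρ_act hz F.pair.mem, hs.eq, mul_inv_cancel_right]

theorem exists_lift {γ : O6} (hγ : γ ∈ Cfsg.Omega (ZMod 2) ⇑Q6) (hfix : act γ v0 = v0) :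
    ∃ g, Commute g z ∧ Commute g F.s ∧ D.ρ g = γ := by
  obtain ⟨g, hg, rfl⟩ := D.ρ_surj hγ
  have h1 : g * F.s * g⁻¹ ∈ Q := D.setup.conj_mem hg F.pair.mem
  obtain ⟨i, hi⟩ := F.eq_el h1 (j := 1) (by rw [← D.ρ_act hg F.pair.mem, F.hs, hfix, one_smul])
  rcases pw_cases z i with ⟨-, e⟩ | ⟨-, e⟩ <;> rw [el, e, pw_one] at hi
  · rw [one_mul] at hi
    exact ⟨g, hg, mul_inv_eq_iff_eq_mul.1 hi, rfl⟩
  · have hyz : Commute F.y z := (D.setup.z_commute F.hy).symm
    refine ⟨F.y * g, hyz.mul_left hg, mul_inv_eq_iff_eq_mul.1 ?_, ?_⟩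
    · rw [show F.y * g * F.s * (F.y * g)⁻¹ = F.y * (g * F.s * g⁻¹) * F.y⁻¹ by group, hi, F.y_zs]
    · rw [D.ρ_mul hyz hg, (D.ρ_ker hyz).2 F.hy, one_mul]

/-- `Q ∩ R = {1, z, s, z s}`. -/
theorem inter_small {x : G} (hx : x ∈ Q) (hxR : x ∈ F.R) : Eqv (D.c x) 0 := by
  by_contra hne
  simp only [Eqv, zero_add, not_or] at hne
  have hel := F.pair.inter_elementary
  have hxs : B6 (D.c x) v0 = 0 := (F.commute_s_iff hx).1 (mem_fixIn.1 (F.pair.inter_le.1 ⟨hx, hxR⟩)).2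
  have hq : Q6 (D.c x) = 0 := (D.sq_eq_one hx).1 (by
    have := congrArg Subtype.val (show (⟨x, hx, hxR⟩ : ↥(Q ⊓ F.R)) ^ 2 = 1 from
      Subtype.ext (by
        rcases D.setup.zpowers_cases (D.setup.sq_mem hx) with e | e
        · simpa [pow_two] using e
        · rcases F.pair.right.zpowers_cases (F.pair.right.sq_mem hxR) with e' | e'
          · simpa [pow_two] using e'
          · exact absurd (e'.symm.trans e) F.pair.ne))
    simpa [pow_two] using this)
  obtain ⟨γ, hγ, hfix, n1, n2, n3, n4⟩ := exists_move hq hxs hne.1 hne.2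
  obtain ⟨g, hgz, hgs, rfl⟩ := F.exists_lift hγ hfix
  have hu : g * x * g⁻¹ ∈ Q ⊓ F.R :=
    ⟨D.setup.conj_mem hgz hx, F.pair.right.conj_mem hgs hxR⟩
  have hcu : D.c (g * x * g⁻¹) = act (D.ρ g) (D.c x) := (D.ρ_act hgz hx).symm
  have hcomm : Commute x (g * x * g⁻¹) := by
    have := hel.1.is_comm.comm (⟨x, hx, hxR⟩ : ↥(Q ⊓ F.R)) ⟨g * x * g⁻¹, hu⟩
    exact congrArg Subtype.val this
  have hb := (D.commute_iff hx hu.1).1 hcomm
  rw [hcu] at hb
  have hb0 : B6 (act (D.ρ g) (D.c x)) v0 = 0 := by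
    rw [← hfix, B6, act_polar]; exact hxs
  rcases eq_of_singular hq (by rw [act_Q]; exact hq) hxs hb0 hb hne.1 hne.2 with e | e | e | e
  exacts [n1 e, n2 e, n3 e, n4 e]

/-- The first parameter. -/
noncomputable def av (_F : Frame D) (g : G) : V6 := nmap (D.ρ g) yy

/-- Elements acting on `v0⊥` as transvections towards `v0`. -/
structure Sig (g : G) : Prop where
  cz : Commute g z
  cs : Commute g F.s
  inv : D.ρ g * D.ρ g = 1
  small : ∀ v, B6 v v0 = 0 → nmap (D.ρ g) v = 0 ∨ nmap (D.ρ g) v = v0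

variable {F}

theorem Sig.av_perp {g : G} (h : F.Sig g) : B6 (F.av g) v0 = 0 := by
  rw [av, B6, ← polar_nmap h.inv, nmap_apply, F.rho_fix h.cz h.cs, add_self_vec, polar_zero_right]

theorem Sig.nmap_eq {g : G} (h : F.Sig g) {v : V6} (hv : B6 v v0 = 0) :
    nmap (D.ρ g) v = B6 (F.av g) v • v0 := by
  have e := polar_nmap h.inv yy v
  rw [av, B6, ← e]
  rcases h.small v hv with e' | e' <;> rw [e']
  · rw [polar_zero_right, zero_smul]
  · rw [show polar (⇑Q6) yy v0 = 1 from B_yy, one_smul]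

theorem Sig.rho_eq {g k : G} (hg : F.Sig g) (hk : F.Sig k) (h : Eqv (F.av g) (F.av k)) :
    D.ρ g = D.ρ k := by
  rw [← inv_mul_eq_one]
  refine eq_one_of_fix_hyp fun v hv => ?_
  have : act (D.ρ k) v = act (D.ρ g) v := by
    rw [act_eq_add, act_eq_add, hg.nmap_eq hv, hk.nmap_eq hv, h.polar_eq hv]
  rw [act_mul, this, act_inv_act]

theorem sig_of_mem {r : G} (hr : r ∈ fixIn F.R z) : F.Sig r := by
  obtain ⟨hrR, hrz⟩ := mem_fixIn.1 hr
  have hrs : Commute r F.s := (F.pair.right.z_commute hrR).symm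
  refine ⟨hrz, hrs, D.rho_sq hrz ?_, fun v hv => ?_⟩
  · rcases F.pair.right.zpowers_cases (F.pair.right.sq_mem hrR) with e | e <;> rw [e]
    exacts [one_mem _, F.pair.mem]
  · obtain ⟨x, hx, rfl⟩ := D.coords.surj v
    have hxs : Commute x F.s := (F.commute_s_iff hx).2 hv
    have h1 : r * x * r⁻¹ * x⁻¹ ∈ Q := D.setup.comm_mem hrz hx
    have h2 : r * x * r⁻¹ * x⁻¹ ∈ F.R := by
      rw [show r * x * r⁻¹ * x⁻¹ = r * (x * r⁻¹ * x⁻¹) by group]
      exact mul_mem hrR (F.pair.right.conj_mem hxs (inv_mem hrR))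
    have h3 := F.inter_small h1 h2
    rw [D.coords.mul _ (D.setup.conj_mem hrz hx) _ (inv_mem hx), D.coords.c_inv hx,
      ← D.ρ_act hrz hx, ← nmap_apply] at h3
    simpa [Eqv] using h3

variable (F)

/-- The element of `Q` attached to an element of `R`. -/
def qel (r : G) : G := r⁻¹ * (F.y * r * F.y⁻¹)

variable {F}

theorem qel_spec {r : G} (hr : r ∈ fixIn F.R z) :
    F.qel r ∈ Q ∧ Commute (F.qel r) F.s ∧ D.c (F.qel r) = F.av r := by
  have hS := sig_of_mem hr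
  have h1 : r⁻¹ * F.y * r ∈ Q := by
    have := D.setup.conj_mem hS.cz.inv_left F.hy
    rwa [inv_inv] at this
  have e : F.qel r = r⁻¹ * F.y * r * F.y⁻¹ := by rw [qel]; group
  have hQ : F.qel r ∈ Q := e ▸ mul_mem h1 (inv_mem F.hy)
  have hc : D.c (F.qel r) = F.av r := by
    rw [e, D.coords.mul _ h1 _ (inv_mem F.hy), D.coords.c_inv F.hy, F.hcy,
      show r⁻¹ * F.y * r = r⁻¹ * F.y * r⁻¹⁻¹ by rw [inv_inv], ← D.ρ_act hS.cz.inv_left F.hy,
      F.hcy, D.rho_inv hS.cz, inv_eq_of_mul_eq_one_left hS.inv, ← nmap_apply]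
    rfl
  exact ⟨hQ, (F.commute_s_iff hQ).2 (hc ▸ hS.av_perp), hc⟩

variable (F)

theorem card_fixIn_left : Nat.card (fixIn Q F.s) = 64 := by
  have h2 : ((fixIn Q F.s).subgroupOf Q).index = 2 := by
    rw [Subgroup.index_eq_two_iff]
    refine ⟨⟨F.y, F.hy⟩, fun b => ?_⟩
    simp only [Subgroup.mem_subgroupOf, Subgroup.coe_mul, mem_fixIn]
    have hb : (b : G) * F.y ∈ Q := mul_mem b.2 F.hy
    rw [F.commute_s_iff hb, F.commute_s_iff b.2, D.coords.mul _ b.2 _ F.hy, F.hcy, B6,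
      polar_add_left, show polar (⇑Q6) yy v0 = 1 from B_yy, xor_iff_not_iff]
    simp only [SetLike.coe_mem, hb, true_and]
    show ¬(polar (⇑Q6) (D.c ↑b) v0 + 1 = 0 ↔ polar (⇑Q6) (D.c ↑b) v0 = 0)
    generalize polar (⇑Q6) (D.c ↑b) v0 = a
    revert a; decide
  have h3 := ((fixIn Q F.s).subgroupOf Q).card_mul_index
  rw [h2, D.card] at h3
  have h4 := Nat.card_congr
    (Subgroup.subgroupOfEquivOfLe (fun w hw => (mem_fixIn.1 hw).1 : fixIn Q F.s ≤ Q)).toEquiv
  omega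

theorem card_fixIn_right : Nat.card (fixIn F.R z) = 64 := by
  obtain ⟨k, hkz, hks, hR⟩ := F.pair.exists_swap
  have e : fixIn F.R z = (fixIn Q F.s).map (MulAut.conj k).toMonoidHom := by
    ext w
    rw [Subgroup.mem_map_equiv, MulAut.conj_symm_apply, mem_fixIn, mem_fixIn, hR,
      Subgroup.mem_map_equiv, MulAut.conj_symm_apply]
    refine and_congr_right fun _ => ?_
    have hks' : k⁻¹ * z * k = F.s := by
      calc k⁻¹ * z * k = k⁻¹ * (k * F.s * k⁻¹) * k := by rw [hks]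
        _ = F.s := by group
    constructor
    · intro h
      have := (Commute.conj_iff k⁻¹).2 h
      rw [inv_inv, hks'] at this
      exact this
    · intro h
      have := (Commute.conj_iff k).2 h
      rw [hks] at this
      simpa [mul_assoc] using this
  rw [e, Subgroup.card_map_of_injective (MulAut.conj k).injective, F.card_fixIn_left]

theorem exists_r {a : V6} (ha : B6 a v0 = 0) : ∃ r ∈ fixIn F.R z, Eqv (F.av r) a := by
  classical
  let norm : V6 → V6 := fun v => v + B6 v yy • v0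
  have hn : ∀ v, Eqv (norm v) v := fun v => by
    rcases (by decide : ∀ b : ZMod 2, b = 0 ∨ b = 1) (B6 v yy) with e | e
    · left; simp [norm, e]
    · right; simp [norm, e]
  let P : Finset V6 := Finset.univ.filter fun v => B6 v v0 = 0 ∧ B6 v yy = 0
  have hP : ∀ v, B6 v v0 = 0 → norm v ∈ P := fun v hv => by
    refine Finset.mem_filter.2 ⟨Finset.mem_univ _, (hn v).perp hv, ?_⟩
    simp only [norm, B6, polar_add_left, polar_smul_left, smul_eq_mul, polar_comm _ v0,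
      show polar (⇑Q6) yy v0 = 1 from B_yy, mul_one, zadd2]
  have hPc : P.card ≤ 16 := by
    refine le_trans (Finset.card_le_card (t := ((codes.filter fun k => orth k 1 && orth k 4).map vc).toFinset)
      fun v hv => ?_) ((List.toFinset_card_le _).trans (by rw [List.length_map]; decide +kernel))
    obtain ⟨-, h1, h2⟩ := Finset.mem_filter.1 hv
    obtain ⟨k, hk, rfl⟩ := vc_surj v
    have hk' := List.mem_range.1 hk
    exact List.mem_toFinset.2 (List.mem_map.2 ⟨k, List.mem_filter.2 ⟨hk, by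
      rw [orth_true hk' (by norm_num) h1, orth_true hk' (by norm_num) h2]; rfl⟩, rfl⟩)
  haveI := Fintype.ofFinite (fixIn F.R z)
  let f : fixIn F.R z → V6 := fun r => norm (F.av r)
  have hfib : ∀ v ∈ Finset.univ.image f, (Finset.univ.filter fun r => f r = v).card ≤ 4 := by
    intro v hv
    obtain ⟨r0, -, rfl⟩ := Finset.mem_image.1 hv
    let E4 : Finset G := (Finset.univ : Finset (ZMod 2 × ZMod 2)).image fun p => (r0 : G) * el z F.s p.1 p.2
    refine le_trans (Finset.card_le_card_of_injOn (t := E4) (fun r => (r : G)) (fun r hr => ?_)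
      (fun a _ b _ e => Subtype.ext e)) (Finset.card_image_le.trans (by decide))
    have e := (Finset.mem_filter.1 hr).2
    have heq : Eqv (F.av r) (F.av r0) := (hn _).symm.trans ((show norm (F.av r) = norm (F.av r0) from e) ▸ hn _)
    have hρ := (sig_of_mem r.2).rho_eq (sig_of_mem r0.2) heq
    have hz := (sig_of_mem r0.2).cz.inv_left.mul_left (sig_of_mem r.2).cz
    have hQ : (r0 : G)⁻¹ * r ∈ Q := (D.ρ_ker hz).1 (by
      rw [D.ρ_mul (sig_of_mem r0.2).cz.inv_left (sig_of_mem r.2).cz, D.rho_inv (sig_of_mem r0.2).cz, hρ,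
        inv_mul_cancel])
    have hR : (r0 : G)⁻¹ * r ∈ F.R := mul_mem (inv_mem r0.2.1) r.2.1
    obtain ⟨i, j, hij⟩ := F.eq_el_of_small hQ (F.inter_small hQ hR)
    exact Finset.mem_image.2 ⟨(i, j), Finset.mem_univ _, by rw [← hij, mul_inv_cancel_left]⟩
  have h64 := Finset.card_le_mul_card_image (f := f) Finset.univ 4 hfib
  rw [Finset.card_univ, ← Nat.card_eq_fintype_card, F.card_fixIn_right] at h64
  have hsub : Finset.univ.image f ⊆ P := fun v hv => by
    obtain ⟨r, -, rfl⟩ := Finset.mem_image.1 hv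
    exact hP _ (sig_of_mem r.2).av_perp
  have heq := Finset.eq_of_subset_of_card_le hsub (by omega)
  obtain ⟨r, -, e⟩ := Finset.mem_image.1 (heq.symm ▸ hP a ha : norm a ∈ Finset.univ.image f)
  exact ⟨r, r.2, (hn _).symm.trans ((show norm (F.av r) = norm a from e) ▸ hn a)⟩

/-- The third member of the triple. -/
noncomputable def W : Subgroup G := F.R.map (MulAut.conj F.y).toMonoidHom

theorem exists_w_frame : ∃ t ∈ F.R, t * z * t⁻¹ = z * F.s ∧
    F.W = Q.map (MulAut.conj t).toMonoidHom := by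
  obtain ⟨t, ht, htz⟩ := F.pair.exists_moving_right
  obtain ⟨k, hk, -, hR⟩ := F.pair.exists_swap
  have hsetx : Setup F.W (z * F.s) := F.conj_y_s ▸ F.pair.right.conj F.y
  have hsett : Setup (Q.map (MulAut.conj t).toMonoidHom) (z * F.s) := htz ▸ D.setup.conj t
  refine ⟨t, ht, htz, hsett.eq_of_conj hsetx (g := F.y * k * t⁻¹) ?_ ?_⟩
  · rw [W, hR, Subgroup.map_map, Subgroup.map_map]
    congr 1
    ext u
    simp [mul_assoc]
  · rw [show F.y * k * t⁻¹ * (z * F.s) * (F.y * k * t⁻¹)⁻¹ =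
      F.y * (k * (t⁻¹ * (z * F.s) * t) * k⁻¹) * F.y⁻¹ by group]
    conv_lhs => rw [← htz]
    rw [show t⁻¹ * (t * z * t⁻¹) * t = z by group, hk, F.conj_y_s]

variable {F}

theorem comm_s_part {r x : G} (hr : r ∈ fixIn F.R z) (hx : x ∈ Q) (hxs : Commute x F.s) :
    ∃ i, r * x * r⁻¹ * x⁻¹ = el z F.s i (B6 (F.av r) (D.c x)) := by
  have hS := sig_of_mem hr
  refine F.eq_el (D.setup.comm_mem hS.cz hx) ?_
  rw [D.coords.mul _ (D.setup.conj_mem hS.cz hx) _ (inv_mem hx), D.coords.c_inv hx,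
    ← D.ρ_act hS.cz hx, ← nmap_apply, hS.nmap_eq ((F.commute_s_iff hx).1 hxs)]

theorem base_commute {x : G} (hx : x ∈ Q) (hxs : Commute x F.s) (i j : ZMod 2) :
    Commute x (el z F.s i j) :=
  F.el_commute (D.setup.z_commute hx).symm hxs i j

theorem inv_of_el {a b : G} {i j : ZMod 2} (h : a * b * a⁻¹ * b⁻¹ = el z F.s i j) :
    b * a * b⁻¹ * a⁻¹ = el z F.s i j := by
  rw [← F.el_inv i j, ← h]; group

/-- The `z`-exponent of a commutator is read off in `R`. -/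
theorem z_part {r r' : G} (hr : r ∈ fixIn F.R z) (hr' : r' ∈ fixIn F.R z) {i j g : ZMod 2}
    (h : r * F.qel r' * r⁻¹ * (F.qel r')⁻¹ = el z F.s i j)
    (hg : r' * r * r'⁻¹ * r⁻¹ = el z F.s 0 g) : i = g := by
  obtain ⟨t, ht, htz, hW⟩ := F.exists_w_frame
  have hts : Commute t F.s := (F.pair.right.z_commute ht).symm
  obtain ⟨hqQ, hqs, hqc⟩ := qel_spec hr'
  set q := F.qel r' with hq
  have hS := sig_of_mem hr
  have hS' := sig_of_mem hr'
  have hwW : r' * q ∈ F.W := by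
    rw [hq, qel, mul_inv_cancel_left]
    exact ⟨r', (mem_fixIn.1 hr').1, rfl⟩
  rw [hW] at hwW
  obtain ⟨x, hxQ, hx⟩ := hwW
  replace hx : t * x * t⁻¹ = r' * q := hx
  have hxs : Commute x F.s := by
    rw [show x = t⁻¹ * (r' * q) * t by rw [← hx]; group]
    exact ((hts.inv_left.mul_left (hS'.cs.mul_left hqs)).mul_left hts)
  -- `x` agrees with `q` modulo `⟨z, s⟩`
  have h1 : t * x * t⁻¹ * x⁻¹ ∈ F.R := by
    rw [show t * x * t⁻¹ * x⁻¹ = t * (x * t⁻¹ * x⁻¹) by group]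
    exact mul_mem ht (F.pair.right.conj_mem hxs (inv_mem ht))
  have hQR : q * x⁻¹ ∈ F.R := by
    have := mul_mem (inv_mem (mem_fixIn.1 hr').1) h1
    rwa [hx, show r'⁻¹ * (r' * q * x⁻¹) = q * x⁻¹ by group] at this
  obtain ⟨k, l, hkl⟩ := F.eq_el_of_small (mul_mem hqQ (inv_mem hxQ))
    (F.inter_small (mul_mem hqQ (inv_mem hxQ)) hQR)
  have hxq : x = el z F.s k l * q := by
    rw [← F.el_inv, ← hkl]; group
  have hrel : r * x * r⁻¹ * x⁻¹ = el z F.s i j := by
    rw [hxq, show r * (el z F.s k l * q) * r⁻¹ * (el z F.s k l * q)⁻¹ =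
      (r * el z F.s k l * r⁻¹) * (r * q * r⁻¹ * q⁻¹) * (el z F.s k l)⁻¹ by group, h,
      (F.el_commute hS.cz hS.cs k l).eq, mul_inv_cancel_right, F.el_inv, F.el_mul, F.el_mul]
    congr 1 <;> rw [add_right_comm, zadd2, zero_add]
  -- conjugate the relation by `t`
  obtain ⟨m, hm⟩ : ∃ m, t * r * t⁻¹ = el z F.s 0 m * r := by
    rcases F.pair.right.comm_cases ht (mem_fixIn.1 hr).1 with e | e
    · exact ⟨0, by rw [F.el_zero, one_mul]; exact mul_inv_eq_one.1 e⟩
    · exact ⟨1, by rw [el, pw_zero, pw_one, one_mul]; exact mul_inv_eq_iff_eq_mul.1 e⟩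
  have htel : t * el z F.s i j * t⁻¹ = el z F.s i (i + j) := by
    have ets : t * F.s * t⁻¹ = F.s := by rw [hts.eq, mul_inv_cancel_right]
    rw [show t * el z F.s i j * t⁻¹ = (t * pw z i * t⁻¹) * (t * pw F.s j * t⁻¹) by rw [el]; group,
      show t * pw F.s j * t⁻¹ = pw F.s j by
        rcases pw_cases F.s j with ⟨-, e⟩ | ⟨-, e⟩ <;> rw [e]
        · group
        · exact ets]
    rcases pw_cases z i with ⟨e', e⟩ | ⟨e', e⟩ <;> rw [e, e']
    · rw [zero_add, el, pw_zero]; group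
    · rw [htz, el, pw_one, ← pw_mul F.ss, pw_one, mul_assoc]
  have e1 := congrArg (fun w => t * w * t⁻¹) hrel
  rw [htel, show t * (r * x * r⁻¹ * x⁻¹) * t⁻¹ =
    (t * r * t⁻¹) * (t * x * t⁻¹) * (t * r * t⁻¹)⁻¹ * (t * x * t⁻¹)⁻¹ by group, hx, hm] at e1
  have hcw : Commute (r' * q) (el z F.s 0 m) :=
    (F.el_commute hS'.cz hS'.cs 0 m).mul_left (F.base_commute hqQ hqs 0 m)
  have e2 : el z F.s 0 m * r * (r' * q) * (el z F.s 0 m * r)⁻¹ * (r' * q)⁻¹ =
      r * (r' * q) * r⁻¹ * (r' * q)⁻¹ := by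
    rw [show el z F.s 0 m * r * (r' * q) * (el z F.s 0 m * r)⁻¹ =
      el z F.s 0 m * (r * (r' * q) * r⁻¹) * (el z F.s 0 m)⁻¹ by group,
      (((F.el_commute hS.cz hS.cs 0 m).mul_left hcw).mul_left
        (F.el_commute hS.cz hS.cs 0 m).inv_left).symm.eq, mul_inv_cancel_right]
  rw [e2, show r * (r' * q) * r⁻¹ * (r' * q)⁻¹ =
    (r * r' * r⁻¹ * r'⁻¹) * (r' * (r * q * r⁻¹ * q⁻¹) * r'⁻¹) by group, h, inv_of_el hg,
    (F.el_commute hS'.cz hS'.cs i j).eq, mul_inv_cancel_right, F.el_mul] at e1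
  have h3 := (F.el_inj e1).2
  revert h3
  generalize i = a
  generalize j = b
  generalize g = c
  revert a b c
  decide

/-- The commutator form on `R` is the commutator form on `Q`. -/
theorem comm_R {r r' : G} (hr : r ∈ fixIn F.R z) (hr' : r' ∈ fixIn F.R z) :
    r * r' * r⁻¹ * r'⁻¹ = el z F.s 0 (B6 (F.av r) (F.av r')) ∧
    r * F.qel r' * r⁻¹ * (F.qel r')⁻¹ = el z F.s (B6 (F.av r) (F.av r')) (B6 (F.av r) (F.av r')) := by
  obtain ⟨hq1, hqs1, hqc1⟩ := qel_spec hr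
  obtain ⟨hq2, hqs2, hqc2⟩ := qel_spec hr'
  have hS := sig_of_mem hr
  have hS' := sig_of_mem hr'
  obtain ⟨g, hg⟩ : ∃ g, r * r' * r⁻¹ * r'⁻¹ = el z F.s 0 g := by
    rcases F.pair.right.comm_cases (mem_fixIn.1 hr).1 (mem_fixIn.1 hr').1 with e | e
    · exact ⟨0, by rw [F.el_zero]; exact e⟩
    · exact ⟨1, by rw [el, pw_zero, pw_one, one_mul]; exact e⟩
  obtain ⟨i, hi⟩ := comm_s_part hr hq2 hqs2
  obtain ⟨i', hi'⟩ := comm_s_part hr' hq1 hqs1
  have hi_eq : i = g := z_part hr hr' hi (inv_of_el hg)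
  have hi'_eq : i' = g := z_part hr' hr hi' hg
  have hd : F.qel r * F.qel r' * (F.qel r)⁻¹ * (F.qel r')⁻¹ = el z F.s (B6 (F.av r) (F.av r')) 0 := by
    rw [D.coords.comm _ hq1 _ hq2, hqc1, hqc2, el, pw_zero, mul_one]
  rw [hi_eq, hqc2] at hi
  rw [hi'_eq, hqc1, show B6 (F.av r') (F.av r) = B6 (F.av r) (F.av r') from polar_comm _ _ _] at hi'
  set d := B6 (F.av r) (F.av r')
  set q := F.qel r
  set q' := F.qel r'
  have hW : (r * q) * (r' * q') * (r * q)⁻¹ * (r' * q')⁻¹ = el z F.s d g := by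
    have c1 := F.el_commute hS.cz hS.cs
    have c2 := F.el_commute hS'.cz hS'.cs
    calc (r * q) * (r' * q') * (r * q)⁻¹ * (r' * q')⁻¹ =
          (r * (q * r' * q⁻¹ * r'⁻¹) * r⁻¹) * (r * (r' * (q * q' * q⁻¹ * q'⁻¹) * r'⁻¹) * r⁻¹) *
            (r * r' * r⁻¹ * r'⁻¹) * (r' * (r * q' * r⁻¹ * q'⁻¹) * r'⁻¹) := by group
      _ = el z F.s g d * el z F.s d 0 * el z F.s 0 g * el z F.s g d := by
          rw [inv_of_el hi', hd, hg, hi, (c2 d 0).eq, mul_inv_cancel_right, (c1 g d).eq,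
            mul_inv_cancel_right, (c1 d 0).eq, mul_inv_cancel_right, (c2 g d).eq, mul_inv_cancel_right]
      _ = el z F.s d g := by
          rw [F.el_mul, F.el_mul, F.el_mul]
          have key : ∀ a b : ZMod 2, a + b + 0 + a = b ∧ b + 0 + a + b = a := by decide
          rw [(key g d).1, (key g d).2]
  have hWs : Setup F.W (z * F.s) := F.conj_y_s ▸ F.pair.right.conj F.y
  have hw : ∀ u ∈ fixIn F.R z, u * F.qel u ∈ F.W := fun u hu => by
    rw [qel, mul_inv_cancel_left]; exact ⟨u, (mem_fixIn.1 hu).1, rfl⟩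
  have hgd : g = d := by
    rcases hWs.comm_cases (hw r hr) (hw r' hr') with e | e <;> rw [hW] at e
    · obtain ⟨e1, e2⟩ := F.el_inj (e.trans F.el_zero.symm); rw [e1, e2]
    · obtain ⟨e1, e2⟩ := F.el_inj (i' := 1) (j' := 1) (e.trans (by rw [el, pw_one, pw_one]))
      rw [e1, e2]
  rw [hgd] at hg hi
  exact ⟨hg, hi⟩

/-- The commutator of `C_R(z)` and `C_Q(s)`. -/
theorem comm_RQ {r x : G} (hr : r ∈ fixIn F.R z) (hx : x ∈ Q) (hxs : Commute x F.s) :
    r * x * r⁻¹ * x⁻¹ = el z F.s (B6 (F.av r) (D.c x)) (B6 (F.av r) (D.c x)) := by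
  have hS := sig_of_mem hr
  have hxp := (F.commute_s_iff hx).1 hxs
  obtain ⟨r', hr', he⟩ := F.exists_r hxp
  obtain ⟨hq, hqs, hqc⟩ := qel_spec hr'
  have h1 := (comm_R hr hr').2
  have hd : B6 (F.av r) (F.av r') = B6 (F.av r) (D.c x) := by
    rw [B6, B6, polar_comm, polar_comm _ (F.av r)]
    exact he.polar_eq hS.av_perp
  have hsm : Eqv (D.c (x * (F.qel r')⁻¹)) 0 := by
    rw [D.coords.mul _ hx _ (inv_mem hq), D.coords.c_inv hq, hqc]
    rcases he with e | e <;> rw [e]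
    · exact Or.inl (add_self_vec _)
    · right; rw [← add_assoc, add_self_vec]
  obtain ⟨k, l, hkl⟩ := F.eq_el_of_small (mul_mem hx (inv_mem hq)) hsm
  have hxe : x = el z F.s k l * F.qel r' := by rw [← hkl, inv_mul_cancel_right]
  rw [hd] at h1
  generalize B6 (F.av r) (D.c x) = d at h1 ⊢
  rw [hxe, show r * (el z F.s k l * F.qel r') * r⁻¹ * (el z F.s k l * F.qel r')⁻¹ =
      (r * el z F.s k l * r⁻¹) * (r * F.qel r' * r⁻¹ * (F.qel r')⁻¹) * (el z F.s k l)⁻¹ by group, h1,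
    (F.el_commute hS.cz hS.cs k l).eq, mul_inv_cancel_right, F.el_inv, F.el_mul, F.el_mul]
  congr 1 <;> rw [add_right_comm, zadd2, zero_add]

/-- The square of an element of `C_R(z)`. -/
theorem sq_R {r : G} (hr : r ∈ fixIn F.R z) : r * r = el z F.s 0 (Q6 (F.av r)) := by
  obtain ⟨hq, hqs, hqc⟩ := qel_spec hr
  obtain ⟨g, hg⟩ : ∃ g, r * r = el z F.s 0 g := by
    rcases F.pair.right.zpowers_cases (F.pair.right.sq_mem (mem_fixIn.1 hr).1) with e | e
    · exact ⟨0, by rw [F.el_zero]; exact e⟩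
    · exact ⟨1, by rw [el, pw_zero, pw_one, one_mul]; exact e⟩
  have h0 := comm_RQ hr hq hqs
  rw [hqc, B6, polar_self_two, F.el_zero, mul_inv_eq_one, mul_inv_eq_iff_eq_mul] at h0
  have hw : (r * F.qel r) * (r * F.qel r) = el z F.s (Q6 (F.av r)) g := by
    calc (r * F.qel r) * (r * F.qel r) = r * (F.qel r * r) * F.qel r := by group
      _ = r * r * (F.qel r * F.qel r) := by rw [← h0]; group
      _ = _ := by
          rw [hg, D.coords.sq _ hq, hqc, show pw z (Q6 (F.av r)) = el z F.s (Q6 (F.av r)) 0 by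
            rw [el, pw_zero, mul_one], F.el_mul, zero_add, add_zero]
  have hWs : Setup F.W (z * F.s) := F.conj_y_s ▸ F.pair.right.conj F.y
  have hwW : r * F.qel r ∈ F.W := by
    rw [qel, mul_inv_cancel_left]; exact ⟨r, (mem_fixIn.1 hr).1, rfl⟩
  have hsq := hWs.sq_mem hwW
  rw [hw] at hsq
  rcases hWs.zpowers_cases hsq with e | e
  · obtain ⟨e1, e2⟩ := F.el_inj (e.trans F.el_zero.symm); rw [hg, e1, e2]
  · obtain ⟨e1, e2⟩ := F.el_inj (i' := 1) (j' := 1) (e.trans (by rw [el, pw_one, pw_one]))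
    rw [hg, e1, e2]

end Frame

end Cfsg.Agent.LargeExt10
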