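import Cfsg.Agent.Lib.OrthCohom.Minus
import Cfsg.Agent.Lib.UnitaryOrthogonal.Involution

/-!
# The six-dimensional minus-type model over the field with two elements

Facts about a singular vector `v0`, an anisotropic plane `⟨aa, bb⟩` orthogonal to it, and their
stabilisers, checked on coded vectors.
-/

set_option autoImplicit false

namespace Cfsg.Agent.LargeExt10

open QuadraticMap Cfsg.Agent.Reflections Cfsg.Agent.OrthCohom

/-- The space. -/
abbrev V6 := (Fin 2 ⊕ Fin 2) ⊕ Fin 2 → ZMod 2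

/-- The form. -/
abbrev Q6 : QuadraticForm (ZMod 2) V6 := qMinus 2 (ZMod 2) 1 1

/-- The isometry group. -/
abbrev O6 := ↥(Cfsg.isometryGroup (ZMod 2) ⇑Q6)

/-- The polar form. -/
noncomputable abbrev B6 (u v : V6) : ZMod 2 := polar ⇑Q6 u v

/-- The vector with the given code. -/
abbrev vc (k : ℕ) : V6 := vec (eMinus 2) k

abbrev v0 : V6 := vc 1
abbrev aa : V6 := vc 16
abbrev bb : V6 := vc 32
abbrev yy : V6 := vc 4

/-- The code of the form. -/
abbrev qm : ℕ → Bool := qmMinus 2

/-- Whether the polar form vanishes. -/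
def orth (a b : ℕ) : Bool := !bilB qm a b

def codes : List ℕ := List.range 64
def ns : List ℕ := codes.filter qm
def ns0 : List ℕ := ns.filter (orth 1)
def img2 (c d a : ℕ) : ℕ := reflImage 6 qm [c, d] a % 64
def same (a b : ℕ) : Bool := a == b || a == b ^^^ 1
def inPlane (a v : ℕ) : Bool := same v 0 || same v a

def chkSing : Bool := codes.all fun u => u == 0 || qm u ||
  ns.any fun c => ns.any fun d => img2 c d u == 1
def chkMove : Bool := codes.all fun u => qm u || !orth 1 u || same u 0 ||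
  ns0.any fun c => ns0.any fun d => !inPlane u (img2 c d u)
def chkNT : Bool := codes.all fun a => qm a || !orth 1 a || same a 0 || codes.all fun b =>
  qm b || !orth 1 b || !orth a b || inPlane a b
def chkFst : Bool := ns0.all fun a => ns0.any fun c => ns0.any fun d => same (img2 c d a) 16
def chkSnd : Bool := ns0.all fun b => orth 16 b || ns0.any fun c => ns0.any fun d =>
  same (img2 c d 16) 16 && same (img2 c d b) 32
def s3 : List ℕ := codes.filter fun x => orth x 1 && orth x 16 && orth x 32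
def span3 : List ℕ := [0, 1, 16, 17, 32, 33, 48, 49]
def chkPerp : Bool := codes.all fun v => !(s3.all (orth v)) || span3.contains v
def pairs : List (ℕ × ℕ) := (codes.flatMap fun a => codes.map fun b => (a, b)).filter fun p =>
  span3.contains p.1 && span3.contains p.2 && qm p.1 && qm p.2 && !orth p.1 p.2
def hyp : List ℕ := codes.filter fun x => orth x 1
def chkHyp : Bool := codes.all fun v => !(hyp.all (orth v)) || v == 0 || v == 1

theorem chkSing_ok : chkSing = true := by decide +kernel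
theorem chkMove_ok : chkMove = true := by decide +kernel
theorem chkNT_ok : chkNT = true := by decide +kernel
theorem chkFst_ok : chkFst = true := by decide +kernel
theorem chkSnd_ok : chkSnd = true := by decide +kernel
theorem chkPerp_ok : chkPerp = true := by decide +kernel
theorem chkHyp_ok : chkHyp = true := by decide +kernel
theorem pairs_len : pairs.length = 24 := by decide +kernel

theorem hQ6 : Q6.polarBilin.Nondegenerate :=
  nondegenerate_of_table coded6 (by decide +kernel)

theorem exc6 : Nat.card (ZMod 2) ≠ 2 ∨ Fintype.card ((Fin 2 ⊕ Fin 2) ⊕ Fin 2) ≠ 4 :=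
  Or.inr (by simp)

theorem vc_surj (v : V6) : ∃ k ∈ codes, vc k = v := by
  obtain ⟨k, hk, e⟩ := vec_surj (eMinus 2) v
  exact ⟨k, List.mem_range.2 hk, e⟩

theorem q_vc {k : ℕ} (hk : k < 64) : Q6 (vc k) = if qm k then 1 else 0 := coded6.q_vec hk

theorem qm_false {k : ℕ} (hk : k < 64) (h : Q6 (vc k) = 0) : qm k = false := by
  rw [q_vc hk] at h
  cases hq : qm k
  · rfl
  · simp [hq] at h

theorem qm_true {k : ℕ} (hk : k < 64) (h : Q6 (vc k) = 1) : qm k = true := by
  rw [q_vc hk] at h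
  cases hq : qm k
  · simp [hq] at h
  · rfl

theorem orth_true {a b : ℕ} (ha : a < 64) (hb : b < 64) (h : B6 (vc a) (vc b) = 0) :
    orth a b = true := by
  rw [B6, vc, vc, coded6.polar_vec ha hb] at h
  cases hq : bilB qm a b
  · simp [orth, hq]
  · simp [hq] at h

theorem orth_false {a b : ℕ} (ha : a < 64) (hb : b < 64) (h : B6 (vc a) (vc b) = 1) :
    orth a b = false := by
  rw [B6, vc, vc, coded6.polar_vec ha hb] at h
  cases hq : bilB qm a b
  · simp [hq] at h
  · simp [orth, hq]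

theorem B_of_orth {a b : ℕ} (ha : a < 64) (hb : b < 64) (h : orth a b = true) :
    B6 (vc a) (vc b) = 0 := by
  rw [B6, vc, vc, coded6.polar_vec ha hb]
  simp only [orth, Bool.not_eq_true'] at h
  simp [h]

theorem vc_xor (a b : ℕ) : vc (a ^^^ b) = vc a + vc b := vec_xor _ _ _

theorem vc_zero : vc 0 = 0 := vec_zero _

theorem vc_same {a b : ℕ} (h : same a b = true) : vc a = vc b ∨ vc a = vc b + v0 := by
  simp only [same, Bool.or_eq_true, beq_iff_eq] at h
  rcases h with h | h
  · exact Or.inl (congrArg vc h)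
  · exact Or.inr (by rw [h, vc_xor])

theorem Q_v0 : Q6 v0 = 0 := by rw [v0, q_vc (by norm_num)]; decide +kernel
theorem Q_aa : Q6 aa = 1 := by rw [aa, q_vc (by norm_num)]; decide +kernel
theorem Q_bb : Q6 bb = 1 := by rw [bb, q_vc (by norm_num)]; decide +kernel
theorem B_yy : B6 yy v0 = 1 := by
  rw [B6, yy, v0, vc, vc, coded6.polar_vec (by norm_num) (by norm_num)]; decide +kernel
theorem B_aa : B6 aa v0 = 0 := B_of_orth (by norm_num) (by norm_num) (by decide +kernel)
theorem B_bb : B6 bb v0 = 0 := B_of_orth (by norm_num) (by norm_num) (by decide +kernel)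
theorem B_ab : B6 aa bb = 1 := by
  rw [B6, aa, bb, vc, vc, coded6.polar_vec (by norm_num) (by norm_num)]; decide +kernel
theorem v0_ne : v0 ≠ 0 := fun h => by
  have := B_yy; rw [h, B6, polar_zero_right] at this; exact zero_ne_one this

theorem mem_ns {c : ℕ} (h : c ∈ ns) : c < 64 ∧ qm c = true := by
  simp only [ns, codes, List.mem_filter, List.mem_range] at h; exact h

theorem mem_ns0 {c : ℕ} (h : c ∈ ns0) : c ∈ ns ∧ B6 (vc c) v0 = 0 := by
  simp only [ns0, List.mem_filter] at h
  have h1 := mem_ns h.1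
  refine ⟨h.1, ?_⟩
  rw [B6, polar_comm]
  exact B_of_orth (by norm_num) h1.1 h.2

/-- A pair of coded reflections gives a member of `Ω`. -/
theorem exists_omega {c d : ℕ} (hc : c ∈ ns) (hd : d ∈ ns) : ∃ γ : O6,
    γ ∈ Cfsg.Omega (ZMod 2) ⇑Q6 ∧ (∀ k, act γ (vc k) = vc (img2 c d k)) ∧
    (B6 (vc c) v0 = 0 → B6 (vc d) v0 = 0 → act γ v0 = v0) := by
  obtain ⟨hc1, hc2⟩ := mem_ns hc
  obtain ⟨hd1, hd2⟩ := mem_ns hd
  have hcne := coded6.ne_zero hc1 hc2
  have hdne := coded6.ne_zero hd1 hd2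
  refine ⟨refl Q6 (vc c) * refl Q6 (vc d), ?_, fun k => ?_, fun h1 h2 => ?_⟩
  · obtain ⟨δ, hδ, hδv⟩ := UnitaryOrthogonal.Involution.exists_rkHom (Q := Q6) hQ6 exc6
    rw [UnitaryOrthogonal.Involution.mem_omega_iff_even_rk hQ6 exc6,
      ← UnitaryOrthogonal.Involution.ofAdd_cast_eq_one_iff, ← hδ, map_mul, hδv (vc c) hcne,
      hδv (vc d) hdne, ← ofAdd_add]
    rfl
  · rw [act_mul, vc, (coded6.tab_refl hd1 hd2).app_eq, vc, (coded6.tab_refl hc1 hc2).app_eq]
    show _ = vec (eMinus 2) (img2 c d k)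
    rw [img2, show (64 : ℕ) = 2 ^ (2 + 2 + 2) from rfl, vec_mod]
    rfl
  · rw [act_mul, refl_fix hdne h2, refl_fix hcne h1]

theorem exists_to_v0 {u : V6} (hu : u ≠ 0) (hq : Q6 u = 0) :
    ∃ γ ∈ Cfsg.Omega (ZMod 2) ⇑Q6, act γ u = v0 := by
  obtain ⟨k, hk, rfl⟩ := vc_surj u
  have hk' := List.mem_range.1 hk
  have h := chkSing_ok
  simp only [chkSing, List.all_eq_true, Bool.or_eq_true, beq_iff_eq, List.any_eq_true] at h
  rcases h k hk with (h | h) | ⟨c, hc, d, hd, e⟩
  · exact absurd (by rw [h, vc_zero]) hu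
  · rw [qm_false hk' hq] at h; exact absurd h Bool.false_ne_true
  · obtain ⟨γ, hγ, hact, -⟩ := exists_omega hc hd
    exact ⟨γ, hγ, by rw [hact, e]⟩

theorem exists_move {u : V6} (hq : Q6 u = 0) (hu : B6 u v0 = 0) (h1 : u ≠ 0) (h2 : u ≠ v0) :
    ∃ γ ∈ Cfsg.Omega (ZMod 2) ⇑Q6, act γ v0 = v0 ∧
      act γ u ≠ 0 ∧ act γ u ≠ v0 ∧ act γ u ≠ u ∧ act γ u ≠ u + v0 := by
  obtain ⟨k, hk, rfl⟩ := vc_surj u
  have hk' := List.mem_range.1 hk
  have ho : orth 1 k = true := orth_true (by norm_num) hk' (by rw [B6, polar_comm]; exact hu)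
  have hs : same k 0 = false := by
    rw [Bool.eq_false_iff]
    intro h
    rcases vc_same h with e | e
    · exact h1 (by rw [e, vc_zero])
    · exact h2 (by rw [e, vc_zero, zero_add])
  have h := chkMove_ok
  simp only [chkMove, List.all_eq_true, Bool.or_eq_true, List.any_eq_true] at h
  have h' := h k hk
  simp only [qm_false hk' hq, ho, hs, Bool.false_eq_true, Bool.not_true, false_or] at h'
  obtain ⟨c, hc, d, hd, e⟩ := h'
  obtain ⟨hc', hc0⟩ := mem_ns0 hc
  obtain ⟨hd', hd0⟩ := mem_ns0 hd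
  obtain ⟨γ, hγ, hact, hfix⟩ := exists_omega hc' hd'
  have hlt : img2 c d k < 2 ^ (2 + 2 + 2) := Nat.mod_lt _ (by norm_num)
  have key : ∀ j < 64, act γ (vc k) = vc j → img2 c d k = j := fun j hj e' =>
    vec_inj (eMinus 2) hlt hj ((hact k).symm.trans e')
  have hx : k ^^^ 1 < 64 := Nat.xor_lt_two_pow (n := 6) hk' (by norm_num)
  refine ⟨γ, hγ, hfix hc0 hd0, fun e' => ?_, fun e' => ?_, fun e' => ?_, fun e' => ?_⟩
  · rw [← vc_zero] at e'; rw [key 0 (by norm_num) e'] at e; simp [inPlane, same] at e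
  · rw [key 1 (by norm_num) e'] at e; simp [inPlane, same] at e
  · rw [key k hk' e'] at e; simp [inPlane, same] at e
  · rw [← vc_xor] at e'; rw [key _ hx e'] at e; simp [inPlane, same] at e

theorem eq_of_singular {a b : V6} (qa : Q6 a = 0) (qb : Q6 b = 0) (ha : B6 a v0 = 0)
    (hb : B6 b v0 = 0) (hab : B6 a b = 0) (a0 : a ≠ 0) (a1 : a ≠ v0) :
    b = 0 ∨ b = v0 ∨ b = a ∨ b = a + v0 := by
  obtain ⟨k, hk, rfl⟩ := vc_surj a
  obtain ⟨j, hj, rfl⟩ := vc_surj b
  have hk' := List.mem_range.1 hk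
  have hj' := List.mem_range.1 hj
  have hs : same k 0 = false := by
    rw [Bool.eq_false_iff]
    intro h
    rcases vc_same h with e | e
    · exact a0 (by rw [e, vc_zero])
    · exact a1 (by rw [e, vc_zero, zero_add])
  have h := chkNT_ok
  simp only [chkNT, List.all_eq_true, Bool.or_eq_true] at h
  have h' := h k hk
  simp only [qm_false hk' qa, orth_true (by norm_num : 1 < 64) hk' (by rw [B6, polar_comm]; exact ha),
    hs, Bool.false_eq_true, Bool.not_true, false_or] at h'
  have h'' := h' j hj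
  simp only [qm_false hj' qb, orth_true (by norm_num : 1 < 64) hj' (by rw [B6, polar_comm]; exact hb),
    orth_true hk' hj' hab, Bool.false_eq_true, Bool.not_true, false_or] at h''
  simp only [inPlane, Bool.or_eq_true] at h''
  rcases h'' with h'' | h'' <;> rcases vc_same h'' with e | e
  · exact Or.inl (e.trans vc_zero)
  · exact Or.inr (Or.inl (by rw [e, vc_zero, zero_add]))
  · exact Or.inr (Or.inr (Or.inl e))
  · exact Or.inr (Or.inr (Or.inr e))

theorem exists_to_pair {a b : V6} (qa : Q6 a = 1) (qb : Q6 b = 1) (ha : B6 a v0 = 0)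
    (hb : B6 b v0 = 0) (hab : B6 a b = 1) :
    ∃ γ ∈ Cfsg.Omega (ZMod 2) ⇑Q6, act γ v0 = v0 ∧ (act γ a = aa ∨ act γ a = aa + v0) ∧
      (act γ b = bb ∨ act γ b = bb + v0) := by
  obtain ⟨k, hk, rfl⟩ := vc_surj a
  have hk' := List.mem_range.1 hk
  have hk0 : k ∈ ns0 := List.mem_filter.2 ⟨List.mem_filter.2 ⟨hk, qm_true hk' qa⟩,
    orth_true (by norm_num) hk' (by rw [B6, polar_comm]; exact ha)⟩
  have h := chkFst_ok
  simp only [chkFst, List.all_eq_true, List.any_eq_true] at h
  obtain ⟨c, hc, d, hd, e⟩ := h k hk0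
  obtain ⟨hc', hc0⟩ := mem_ns0 hc
  obtain ⟨hd', hd0⟩ := mem_ns0 hd
  obtain ⟨γ, hγ, hact, hfix⟩ := exists_omega hc' hd'
  have hfix' := hfix hc0 hd0
  have ea : act γ (vc k) = aa ∨ act γ (vc k) = aa + v0 := by rw [hact]; exact vc_same e
  obtain ⟨j, hj, ej⟩ := vc_surj (act γ b)
  have hj' := List.mem_range.1 hj
  have hb' : B6 (vc j) v0 = 0 := by
    rw [ej, show B6 (act γ b) v0 = B6 (act γ b) (act γ v0) by rw [hfix'], B6, act_polar]; exact hb
  have hj0 : j ∈ ns0 := List.mem_filter.2 ⟨List.mem_filter.2 ⟨hj, qm_true hj' (by rw [ej, act_Q]; exact qb)⟩,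
    orth_true (by norm_num) hj' (by rw [B6, polar_comm]; exact hb')⟩
  have hab' : B6 aa (vc j) = 1 := by
    have e1 : B6 (act γ (vc k)) (vc j) = 1 := by rw [ej, B6, act_polar]; exact hab
    rcases ea with e2 | e2 <;> rw [e2] at e1
    · exact e1
    · rwa [B6, polar_add_left, polar_comm _ v0, show polar (⇑Q6) (vc j) v0 = 0 from hb', add_zero] at e1
  have h2 := chkSnd_ok
  simp only [chkSnd, List.all_eq_true, Bool.or_eq_true, List.any_eq_true, Bool.and_eq_true] at h2
  rcases h2 j hj0 with h2 | ⟨c', hc2, d', hd2, e1, e2⟩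
  · rw [orth_false (by norm_num) hj' hab'] at h2; exact absurd h2 Bool.false_ne_true
  obtain ⟨hc2', hc20⟩ := mem_ns0 hc2
  obtain ⟨hd2', hd20⟩ := mem_ns0 hd2
  obtain ⟨η, hη, hact2, hfix2⟩ := exists_omega hc2' hd2'
  have f2 := hfix2 hc20 hd20
  refine ⟨η * γ, mul_mem hη hγ, by rw [act_mul, hfix', f2], ?_, by
    rw [act_mul, ← ej, hact2]; exact vc_same e2⟩
  have ha2 : act η aa = aa ∨ act η aa = aa + v0 := by rw [hact2]; exact vc_same e1
  rw [act_mul]
  rcases ea with e3 | e3 <;> rw [e3]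
  · exact ha2
  · rw [act_add, f2]
    rcases ha2 with e4 | e4 <;> rw [e4]
    · exact Or.inr rfl
    · left; rw [add_assoc, Forms59.Inv.add_self_vec, add_zero]

/-- The plane `⟨v0, aa, bb⟩`. -/
def InSpan3 (v : V6) : Prop := ∃ k ∈ span3, vc k = v

theorem inSpan3_of_perp {v : V6}
    (h : ∀ x, B6 x v0 = 0 → B6 x aa = 0 → B6 x bb = 0 → B6 v x = 0) : InSpan3 v := by
  obtain ⟨k, hk, rfl⟩ := vc_surj v
  have hk' := List.mem_range.1 hk
  have hc := chkPerp_ok
  simp only [chkPerp, List.all_eq_true, Bool.or_eq_true, Bool.not_eq_true'] at hc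
  rcases hc k hk with e | e
  · have : (s3.all (orth k)) = true := List.all_eq_true.2 fun x hx => by
      simp only [s3, List.mem_filter, Bool.and_eq_true] at hx
      obtain ⟨hx0, ⟨x1, x2⟩, x3⟩ := hx
      have hx' := List.mem_range.1 hx0
      exact orth_true hk' hx' (h _ (B_of_orth hx' (by norm_num) x1) (B_of_orth hx' (by norm_num) x2)
        (B_of_orth hx' (by norm_num) x3))
    rw [this] at e
    exact absurd e Bool.true_eq_false.mp
  · exact ⟨k, List.contains_iff_mem.1 e, rfl⟩

/-- An isometry fixing the hyperplane `v0⊥` pointwise is trivial. -/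
theorem eq_one_of_fix_hyp {γ : O6} (h : ∀ x, B6 x v0 = 0 → act γ x = x) : γ = 1 := by
  have hy : act γ yy = yy := by
    obtain ⟨k, hk, e⟩ := vc_surj (act γ yy + yy)
    have hk' := List.mem_range.1 hk
    have hc := chkHyp_ok
    simp only [chkHyp, List.all_eq_true, Bool.or_eq_true, Bool.not_eq_true', beq_iff_eq] at hc
    have hperp : (hyp.all (orth k)) = true := List.all_eq_true.2 fun x hx => by
      simp only [hyp, List.mem_filter] at hx
      have hx' := List.mem_range.1 hx.1
      refine orth_true hk' hx' ?_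
      have hx0 := h _ (B_of_orth hx' (by norm_num) hx.2)
      rw [e, B6, polar_add_left]
      conv_lhs => arg 1; rw [← hx0, act_polar]
      exact CharTwo.add_self_eq_zero _
    have e2 : act γ yy = yy + vc k := by
      rw [e, add_comm, add_assoc, Forms59.Inv.add_self_vec, add_zero]
    rcases hc k hk with (h0 | h0) | h0
    · rw [hperp] at h0; exact absurd h0 Bool.true_eq_false.mp
    · rw [e2, h0, vc_zero, add_zero]
    · exfalso
      have h1 := act_Q γ yy
      rw [e2, h0, QuadraticMap.map_add ⇑Q6] at h1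
      rw [show vc 1 = v0 from rfl, Q_v0, show polar (⇑Q6) yy v0 = 1 from B_yy, add_zero] at h1
      exact one_ne_zero (add_eq_left.1 h1)
  refine isom_ext fun x => ?_
  rw [act_one]
  rcases (by decide : ∀ a : ZMod 2, a = 0 ∨ a = 1) (B6 x v0) with e | e
  · exact h x e
  · have hx : B6 (x + yy) v0 = 0 := by
      rw [B6, polar_add_left, show polar (⇑Q6) x v0 = 1 from e,
        show polar (⇑Q6) yy v0 = 1 from B_yy]
      rfl
    have h1 := h _ hx
    rw [act_add, hy] at h1
    exact add_right_cancel h1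

/-- The pointwise stabiliser of `{v0, aa, bb}⊥`. -/
noncomputable def fixS3 : Subgroup O6 where
  carrier := {γ | ∀ x, B6 x v0 = 0 → B6 x aa = 0 → B6 x bb = 0 → act γ x = x}
  one_mem' := fun x _ _ _ => act_one x
  mul_mem' := fun {g h} hg hh x a b c => by rw [act_mul, hh x a b c, hg x a b c]
  inv_mem' := fun {g} hg x a b c => by
    conv_lhs => rw [← hg x a b c, act_inv_act]

theorem decomp {x : V6} (hx : B6 x v0 = 0) : ∃ p q : ZMod 2, ∃ r : V6,
    x = p • aa + q • bb + r ∧ B6 r v0 = 0 ∧ B6 r aa = 0 ∧ B6 r bb = 0 := by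
  refine ⟨B6 x bb, B6 x aa, x + (B6 x bb • aa + B6 x aa • bb), ?_, ?_, ?_, ?_⟩
  · rw [add_comm x, ← add_assoc, Forms59.Inv.add_self_vec, zero_add]
  all_goals
    simp only [B6, polar_add_left, polar_smul_left, smul_eq_mul, hx,
      show polar (⇑Q6) aa v0 = 0 from B_aa, show polar (⇑Q6) bb v0 = 0 from B_bb,
      show polar (⇑Q6) aa bb = 1 from B_ab, show polar (⇑Q6) bb aa = 1 from (polar_comm _ _ _).trans B_ab,
      show polar (⇑Q6) aa aa = 0 from polar_self_two _ _, show polar (⇑Q6) bb bb = 0 from polar_self_two _ _,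
      mul_zero, mul_one, add_zero, zero_add, CharTwo.add_self_eq_zero]

/-- The order of the pointwise stabiliser is at most 24. -/
theorem card_fixS3_le : Nat.card fixS3 ≤ 24 := by
  classical
  have hin : ∀ γ : fixS3, ∀ w, (w = aa ∨ w = bb) → InSpan3 (act γ.1 w) := fun γ w hw => by
    refine inSpan3_of_perp fun x h0 h1 h2 => ?_
    have e := γ.2 x h0 h1 h2
    rw [← e, B6, act_polar, polar_comm]
    rcases hw with rfl | rfl
    · exact h1
    · exact h2
  let F : fixS3 → {p : V6 × V6 // p ∈ (pairs.map fun p => (vc p.1, vc p.2)).toFinset} := fun γ =>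
    ⟨(act γ.1 aa, act γ.1 bb), by
      obtain ⟨i, hi, ei⟩ := hin γ aa (Or.inl rfl)
      obtain ⟨j, hj, ej⟩ := hin γ bb (Or.inr rfl)
      have hb : ∀ k ∈ span3, k < 64 := by decide +kernel
      rw [List.mem_toFinset, List.mem_map]
      refine ⟨(i, j), List.mem_filter.2 ⟨List.mem_flatMap.2 ⟨i, List.mem_range.2 (hb i hi),
        List.mem_map.2 ⟨j, List.mem_range.2 (hb j hj), rfl⟩⟩, ?_⟩, by rw [ei, ej]⟩
      simp only [Bool.and_eq_true, List.contains_iff_mem, Bool.not_eq_true']
      exact ⟨⟨⟨⟨hi, hj⟩, qm_true (hb i hi) (by rw [ei, act_Q]; exact Q_aa)⟩,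
        qm_true (hb j hj) (by rw [ej, act_Q]; exact Q_bb)⟩,
        orth_false (hb i hi) (hb j hj) (by rw [ei, ej, B6, act_polar]; exact B_ab)⟩⟩
  have hF : Function.Injective F := by
    intro γ η e
    have ea : act γ.1 aa = act η.1 aa := congrArg (fun p => p.1.1) e
    have eb : act γ.1 bb = act η.1 bb := congrArg (fun p => p.1.2) e
    apply Subtype.ext
    rw [← inv_mul_eq_one]
    refine (eq_one_of_fix_hyp fun x hx => ?_)
    obtain ⟨p, q, r, rfl, r0, r1, r2⟩ := decomp hx
    rw [act_mul, act_add η.1, act_add η.1, act_smul, act_smul, ← ea, ← eb, η.2 r r0 r1 r2]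
    conv_lhs => rw [← act_smul, ← act_smul, ← act_add, ← γ.2 r r0 r1 r2, ← act_add, act_inv_act]
  refine (Nat.card_le_card_of_injective F hF).trans ?_
  rw [Nat.card_eq_fintype_card, Fintype.card_coe]
  refine (List.toFinset_card_le _).trans ?_
  rw [List.length_map, pairs_len]

/-- The pointwise stabiliser has an element of order three. -/
theorem three_dvd_card_fixS3 : 3 ∣ Nat.card fixS3 := by
  have ha : Q6 aa ≠ 0 := by rw [Q_aa]; exact one_ne_zero
  have hb : Q6 bb ≠ 0 := by rw [Q_bb]; exact one_ne_zero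
  set g := refl Q6 aa * refl Q6 bb with hg
  have hmem : g ∈ fixS3 := fun x _ h1 h2 => by
    rw [hg, act_mul, refl_fix hb (by rw [polar_comm]; exact h2), refl_fix ha (by rw [polar_comm]; exact h1)]
  have hT := (coded6.tab_refl (v := 16) (by norm_num) (by decide +kernel)).mul
    (coded6.tab_refl (v := 32) (by norm_num) (by decide +kernel))
  have h3 : g ^ 3 = 1 := by
    rw [pow_succ, pow_two]
    refine Tab.ext ((hT.mul hT).mul hT) ?_
    convert tab_one using 1
    decide +kernel
  have h1 : g ≠ 1 := fun e => by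
    have := hT.app_eq 16
    rw [show refl Q6 (vec (eMinus 2) 16) * refl Q6 (vec (eMinus 2) 32) = g from rfl, e, act_one] at this
    exact absurd (vec_inj (eMinus 2) (by norm_num) (by decide +kernel) this) (by decide +kernel)
  haveI : Fact (Nat.Prime 3) := ⟨Nat.prime_three⟩
  have := Subgroup.orderOf_dvd_natCard fixS3 hmem
  rwa [orderOf_eq_prime h3 h1] at this

end Cfsg.Agent.LargeExt10
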